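import Cfsg.Agent.Lib.Known.SUBounded.Lift

/-!
# A block of degree four and the alternating group

A homomorphism from `SU 4` and one from the alternating group, agreeing and with one stabiliser condition,
extend to `SU n`, one coordinate at a time.
-/

set_option autoImplicit false

namespace CfsgLib.Known.SUBounded

open CfsgLib.Classical CfsgLib.Classical.Herm

variable {F : Type*} [Field F] {q n s : ℕ}

/-- the first `m` coordinates, the last one first -/
def reg {m : ℕ} (h : m ≤ n) : Fin m ↪ Fin n :=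
  ⟨fun i => ⟨m - 1 - i.val, by have := i.isLt; omega⟩, fun i j e => by
    have := i.isLt; have := j.isLt
    have := congrArg Fin.val e
    simp only at this
    exact Fin.ext (by omega)⟩

theorem reg_val {m : ℕ} (h : m ≤ n) (i : Fin m) : (reg h i).val = m - 1 - i.val := rfl

theorem reg_succ {m : ℕ} (h : m + 1 ≤ n) (h' : m ≤ n) : (Fin.succEmb m).trans (reg h) = reg h' := by
  refine Function.Embedding.ext fun i => Fin.ext ?_
  show m + 1 - 1 - (i.val + 1) = m - 1 - i.val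
  omega

theorem reg_reg (h : n ≤ n) : (reg h).trans (reg h) = Function.Embedding.refl (Fin n) := by
  refine Function.Embedding.ext fun i => Fin.ext ?_
  show n - 1 - (n - 1 - i.val) = i.val
  have := i.isLt
  omega

theorem altVia_refl (x : alternatingGroup (Fin n)) : altVia (Function.Embedding.refl (Fin n)) x = x :=
  Subtype.ext (Equiv.ext fun i => altVia_apply (Function.Embedding.refl (Fin n)) x i)

theorem eF_refl (A : Cfsg.SU n F q) : eF (Function.Embedding.refl (Fin n)) A = A :=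
  act_ext fun v => funext fun i => eF_apply (Function.Embedding.refl (Fin n)) A v i

theorem exists_altVia_succ {m : ℕ} {x : alternatingGroup (Fin (m + 1))} (hx : x.1 0 = 0) :
    ∃ x', altVia (Fin.succEmb m) x' = x := by
  obtain ⟨⟨p, e⟩, hpe⟩ : ∃ pe, Equiv.Perm.decomposeFin.symm pe = x.1 :=
    ⟨Equiv.Perm.decomposeFin x.1, Equiv.symm_apply_apply _ _⟩
  have hp : p = 0 := by rw [← hx, ← hpe, Equiv.Perm.decomposeFin_symm_apply_zero]
  subst hp
  have he : Equiv.Perm.sign e = 1 := by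
    have h := Equiv.Perm.mem_alternatingGroup.1 x.2
    rw [← hpe, Equiv.Perm.decomposeFin.symm_sign, if_pos rfl, one_mul] at h
    exact h
  refine ⟨⟨e, Equiv.Perm.mem_alternatingGroup.2 he⟩, Subtype.ext (Equiv.ext fun i => ?_)⟩
  cases i using Fin.cases with
  | zero => rw [altVia_fix _ _ fun a => Fin.succ_ne_zero a, hx]
  | succ j =>
    rw [show j.succ = Fin.succEmb m j from rfl, altVia_apply, ← hpe]
    show (e j).succ = _
    rw [show Fin.succEmb m j = j.succ from rfl, Equiv.Perm.decomposeFin_symm_apply_succ]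
    simp

theorem exists_alt_move {m : ℕ} (hm : 3 ≤ m) (a b : Fin m) : ∃ y : alternatingGroup (Fin m), y.1 a = b := by
  by_cases hab : a = b
  · exact ⟨1, hab⟩
  obtain ⟨c, hc⟩ : ∃ c, c ∉ ({a, b} : Finset (Fin m)) := by
    by_contra hc
    push Not at hc
    have h := Finset.card_le_card (show (Finset.univ : Finset (Fin m)) ⊆ {a, b} from fun x _ => hc x)
    have := Finset.card_le_two (a := a) (b := b)
    rw [Finset.card_univ, Fintype.card_fin] at h
    omega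
  simp only [Finset.mem_insert, Finset.mem_singleton, not_or] at hc
  obtain ⟨hca, hcb⟩ := hc
  refine ⟨⟨Equiv.swap a c * Equiv.swap a b, Equiv.Perm.mem_alternatingGroup.2 (by
    rw [map_mul, Equiv.Perm.sign_swap (Ne.symm hca), Equiv.Perm.sign_swap hab]; rfl)⟩, ?_⟩
  show Equiv.swap a c (Equiv.swap a b a) = b
  rw [Equiv.swap_apply_left, Equiv.swap_apply_of_ne_of_ne (Ne.symm hab) (Ne.symm hcb)]

/-- an even permutation between two frames, up to reordering -/
theorem exists_even_ext (Γ : Subgroup (Equiv.Perm (Fin s))) {m : ℕ}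
    (par : s + 2 ≤ m ∨ ∃ ρ ∈ Γ, Equiv.Perm.sign ρ = -1) (g h : Fin s ↪ Fin m) :
    ∃ (x : alternatingGroup (Fin m)) (ρ : Equiv.Perm (Fin s)), ρ ∈ Γ ∧
      g = ρ.toEmbedding.trans (h.trans x.1.toEmbedding) := by
  classical
  let e : {x // x ∈ Set.range h} ≃ {x // x ∈ Set.range g} :=
    (Equiv.ofInjective h h.injective).symm.trans (Equiv.ofInjective g g.injective)
  obtain ⟨σ, hσ⟩ : ∃ σ : Equiv.Perm (Fin m), ∀ i, σ (h i) = g i := ⟨e.extendSubtype, fun i => by
    rw [e.extendSubtype_apply_of_mem _ ⟨i, rfl⟩]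
    simp [e]⟩
  rcases Int.units_eq_one_or (Equiv.Perm.sign σ) with hs | hs
  · exact ⟨⟨σ, Equiv.Perm.mem_alternatingGroup.2 hs⟩, 1, one_mem _,
      Function.Embedding.ext fun i => (hσ i).symm⟩
  rcases par with hm | ⟨ρ, hρ, hρs⟩
  · obtain ⟨a, b, ha, hb, hab⟩ : ∃ a b, (∀ i, h i ≠ a) ∧ (∀ i, h i ≠ b) ∧ a ≠ b := by
      have hc : 1 < ((Finset.univ.map h)ᶜ).card := by
        rw [Finset.card_compl, Finset.card_map, Finset.card_univ, Fintype.card_fin, Fintype.card_fin]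
        omega
      obtain ⟨a, ha, b, hb, hab⟩ := Finset.one_lt_card.1 hc
      simp only [Finset.mem_compl, Finset.mem_map, Finset.mem_univ, true_and, not_exists] at ha hb
      exact ⟨a, b, ha, hb, hab⟩
    refine ⟨⟨σ * Equiv.swap a b, Equiv.Perm.mem_alternatingGroup.2 (by
      rw [map_mul, hs, Equiv.Perm.sign_swap hab]; rfl)⟩, 1, one_mem _, Function.Embedding.ext fun i => ?_⟩
    show g i = σ (Equiv.swap a b (h i))
    rw [Equiv.swap_apply_of_ne_of_ne (ha i) (hb i), hσ]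
  · refine ⟨⟨σ * CfsgLib.Perm.AltBounded.viaHom h ρ, Equiv.Perm.mem_alternatingGroup.2 (by
      rw [map_mul, hs, CfsgLib.Perm.AltBounded.viaHom_sign, hρs]; rfl)⟩, ρ⁻¹, inv_mem hρ,
      Function.Embedding.ext fun i => ?_⟩
    show g i = σ (CfsgLib.Perm.AltBounded.viaHom h ρ (h (ρ⁻¹ i)))
    rw [CfsgLib.Perm.AltBounded.viaHom_apply, ← Equiv.Perm.mul_apply ρ, mul_inv_cancel, Equiv.Perm.one_apply, hσ]

/-- the double transposition of the first four coordinates -/
def dbl : alternatingGroup (Fin 4) :=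
  ⟨Equiv.swap 0 1 * Equiv.swap 2 3, Equiv.Perm.mem_alternatingGroup.2 (by decide)⟩

/-- the same in any degree -/
def tw {M : ℕ} (h : 4 ≤ M + 2) : alternatingGroup (Fin (M + 2)) := altVia (Fin.castLEEmb h) dbl

/-- a three-cycle of the first coordinates -/
def rot3 : alternatingGroup (Fin 3) := ⟨finRotate 3, Equiv.Perm.mem_alternatingGroup.2 (by decide)⟩

/-- the data -/
structure Amal (F : Type*) [Field F] (q n s : ℕ) (P : Type*) [Group P] where
  hn : 4 ≤ n
  ψ : Cfsg.SU 4 F q →* P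
  α : alternatingGroup (Fin n) →* P
  g₀ : Fin s ↪ Fin 4
  Γ : Subgroup (Equiv.Perm (Fin s))
  Y : Set (Cfsg.SU s F q)
  hs : s ≤ 3
  par : s + 2 ≤ 4 ∨ ∃ ρ ∈ Γ, Equiv.Perm.sign ρ = -1
  sym : ∀ ρ ∈ Γ, ∀ y ∈ Y, ∀ (k : ℕ) (g : Fin s ↪ Fin k), eF (ρ.toEmbedding.trans g) y = eF g y
  gen : ∀ k, 3 ≤ k → Subgroup.closure (Set.range (permSU F q k) ∪
    {A | ∃ (g : Fin s ↪ Fin k) (y : Cfsg.SU s F q), y ∈ Y ∧ A = eF g y}) = ⊤
  agree : ∀ x, ψ (permSU F q 4 x) = α (altVia (reg hn) x)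
  stab : ∀ (τ : alternatingGroup (Fin n)), ∀ ρ ∈ Γ,
    (g₀.trans (reg hn)).trans τ.1.toEmbedding = ρ.toEmbedding.trans (g₀.trans (reg hn)) →
      ∀ y ∈ Y, Commute (α τ) (ψ (eF g₀ y))

namespace Amal

variable {P : Type*} [Group P] (D : Amal F q n s P)

/-- a homomorphism on the first `m` coordinates compatible with the data -/
structure Good {m : ℕ} (hm : m ≤ n) (Φ : Cfsg.SU m F q →* P) : Prop where
  perm : ∀ x, Φ (permSU F q m x) = D.α (altVia (reg hm) x)
  blk : ∀ (g : Fin s ↪ Fin m) (τ : alternatingGroup (Fin n)), ∀ ρ ∈ D.Γ,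
    g.trans (reg hm) = ρ.toEmbedding.trans ((D.g₀.trans (reg D.hn)).trans τ.1.toEmbedding) →
      ∀ y ∈ D.Y, Φ (eF g y) = D.α τ * D.ψ (eF D.g₀ y) * (D.α τ)⁻¹

theorem exists_rep (f : Fin s ↪ Fin n) : ∃ (τ : alternatingGroup (Fin n)) (ρ : Equiv.Perm (Fin s)),
    ρ ∈ D.Γ ∧ f = ρ.toEmbedding.trans ((D.g₀.trans (reg D.hn)).trans τ.1.toEmbedding) :=
  exists_even_ext D.Γ (D.par.imp_left (fun h => by have := D.hn; omega)) f _

theorem same {τ τ' : alternatingGroup (Fin n)} {ρ ρ' : Equiv.Perm (Fin s)} (hρ : ρ ∈ D.Γ) (hρ' : ρ' ∈ D.Γ)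
    (e : ρ.toEmbedding.trans ((D.g₀.trans (reg D.hn)).trans τ.1.toEmbedding) =
      ρ'.toEmbedding.trans ((D.g₀.trans (reg D.hn)).trans τ'.1.toEmbedding)) {y : Cfsg.SU s F q} (hy : y ∈ D.Y) :
    D.α τ * D.ψ (eF D.g₀ y) * (D.α τ)⁻¹ = D.α τ' * D.ψ (eF D.g₀ y) * (D.α τ')⁻¹ := by
  have h := D.stab (τ'⁻¹ * τ) (ρ' * ρ⁻¹) (mul_mem hρ' (inv_mem hρ)) (Function.Embedding.ext fun i => by
    have := congrArg (fun f : Fin s ↪ Fin n => τ'.1⁻¹ (f (ρ⁻¹ i))) e
    simpa using this) y hy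
  calc D.α τ * D.ψ (eF D.g₀ y) * (D.α τ)⁻¹
      = D.α τ' * (D.α (τ'⁻¹ * τ) * D.ψ (eF D.g₀ y)) * (D.α (τ'⁻¹ * τ))⁻¹ * (D.α τ')⁻¹ := by
        rw [map_mul, map_inv]; group
    _ = _ := by rw [h.eq]; group

theorem good_four : D.Good D.hn D.ψ where
  perm := D.agree
  blk g τ ρ hρ e y hy := by
    obtain ⟨x, ρ', hρ', hx⟩ := exists_even_ext D.Γ D.par g D.g₀
    rw [hx, D.sym ρ' hρ' y hy, ← eF_conj x, map_mul, map_mul, map_inv, D.agree]
    refine D.same hρ' hρ ?_ hy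
    rw [← e, hx]
    refine Function.Embedding.ext fun i => ?_
    exact altVia_apply (reg D.hn) x (D.g₀ (ρ' i))

theorem good_unique {m : ℕ} (hm : m ≤ n) (h3 : 3 ≤ m) {Φ Φ' : Cfsg.SU m F q →* P} (h : D.Good hm Φ)
    (h' : D.Good hm Φ') : Φ = Φ' := by
  refine MonoidHom.eq_of_eqOn_dense (D.gen m h3) ?_
  rintro _ (⟨x, rfl⟩ | ⟨g, y, hy, rfl⟩)
  · rw [h.perm, h'.perm]
  · obtain ⟨τ, ρ, hρ, e⟩ := D.exists_rep (g.trans (reg hm))
    rw [h.blk g τ ρ hρ e y hy, h'.blk g τ ρ hρ e y hy]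

variable [Fintype F] (hF : Fintype.card F = q ^ 2)

/-- the extension data in one further coordinate -/
def toExt {M : ℕ} (hM : 3 ≤ M) (hn1 : M + 1 ≤ n) (hn2 : M + 2 ≤ n) (Φ : Cfsg.SU (M + 1) F q →* P)
    (hG : D.Good hn1 Φ) : Ext hF M P where
  hM := hM
  ψ := Φ
  T := permSU F q (M + 2) (tw (by omega))
  t := D.α (altVia (reg hn2) (tw (by omega)))
  hT0 := by
    rw [act_perm_std]
    exact congrArg std (altVia_apply (Fin.castLEEmb (by omega)) dbl 0)
  hT1 := by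
    rw [act_perm_std]
    exact congrArg std (altVia_apply (Fin.castLEEmb (by omega)) dbl 1)
  hTT := by rw [← map_mul, tw, ← map_mul, show dbl * dbl = 1 by decide, map_one, map_one]
  htt := by rw [← map_mul, ← map_mul, tw, ← map_mul, show dbl * dbl = 1 by decide, map_one, map_one, map_one]
  hstab := by
    intro A
    obtain ⟨T, hT⟩ : ∃ T, T = tw (M := M) (by omega) := ⟨_, rfl⟩
    rw [← hT]
    have hTT' : T * T = 1 := by rw [hT, tw, ← map_mul, show dbl * dbl = 1 by decide, map_one]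
    have hinv : T⁻¹ = T := inv_eq_of_mul_eq_one_left hTT'
    have h0 : T.1 0 = 1 := by rw [hT]; exact altVia_apply (Fin.castLEEmb (by omega)) dbl 0
    have h1 : T.1 1 = 0 := by rw [hT]; exact altVia_apply (Fin.castLEEmb (by omega)) dbl 1
    let K : Subgroup (Cfsg.SU M F q) :=
      { carrier := {A | ∃ B, emb (M + 1) B = permSU F q (M + 2) T * emb (M + 1) (emb M A) * permSU F q (M + 2) T ∧
          D.α (altVia (reg hn2) T) * Φ (emb M A) * D.α (altVia (reg hn2) T) = Φ B}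
        one_mem' := ⟨1, by simp only [map_one, mul_one]; rw [← map_mul, hTT', map_one],
          by simp only [map_one, mul_one]; rw [← map_mul, ← map_mul, hTT', map_one, map_one]⟩
        mul_mem' := by
          rintro a b ⟨B, hB, hB'⟩ ⟨B', hC, hC'⟩
          refine ⟨B * B', ?_, ?_⟩
          · rw [map_mul, hB, hC, map_mul, map_mul]
            simp only [mul_assoc]
            rw [← mul_assoc (permSU F q (M + 2) T) (permSU F q (M + 2) T), ← map_mul, hTT', map_one, one_mul]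
          · rw [map_mul Φ B, ← hB', ← hC', map_mul, map_mul]
            simp only [mul_assoc]
            rw [← mul_assoc (D.α (altVia (reg hn2) T)) (D.α (altVia (reg hn2) T)), ← map_mul, ← map_mul, hTT',
              map_one, map_one, one_mul]
        inv_mem' := by
          rintro a ⟨B, hB, hB'⟩
          refine ⟨B⁻¹, ?_, ?_⟩
          · rw [map_inv, hB, map_inv, map_inv, mul_inv_rev, mul_inv_rev, ← map_inv (permSU F q (M + 2)) T, hinv,
              mul_assoc]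
          · rw [map_inv Φ B, ← hB', map_inv, map_inv, mul_inv_rev, mul_inv_rev, ← map_inv D.α,
              ← map_inv (altVia (reg hn2)), hinv, mul_assoc] }
    suffices hK : K = ⊤ from hK.ge (Subgroup.mem_top A)
    rw [eq_top_iff, ← D.gen M hM, Subgroup.closure_le]
    rintro _ (⟨x, rfl⟩ | ⟨g, y, hy, rfl⟩)
    · obtain ⟨z, hz⟩ := exists_altVia_succ
        (x := T * altVia (Fin.succEmb (M + 1)) (altVia (Fin.succEmb M) x) * T) (by
          show T.1 ((altVia (Fin.succEmb (M + 1)) (altVia (Fin.succEmb M) x)).1 (T.1 0)) = 0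
          rw [h0, show (1 : Fin (M + 2)) = Fin.succEmb (M + 1) 0 from rfl, altVia_apply,
            altVia_fix _ _ fun a => Fin.succ_ne_zero a]
          exact h1)
      refine ⟨permSU F q (M + 1) z, ?_, ?_⟩
      · rw [emb_eq_eF, emb_eq_eF, emb_eq_eF, eF_perm, eF_perm, eF_perm, hz, map_mul, map_mul]
      · rw [emb_eq_eF, eF_perm, hG.perm, hG.perm, ← reg_succ hn2 hn1, ← altVia_trans, ← altVia_trans, hz,
          map_mul, map_mul, map_mul, map_mul]
    · obtain ⟨g', hg'⟩ : ∃ g' : Fin s ↪ Fin (M + 1),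
          g'.trans (Fin.succEmb (M + 1)) =
            ((g.trans (Fin.succEmb M)).trans (Fin.succEmb (M + 1))).trans T.1.toEmbedding := by
        have hne : ∀ i, T.1 ((g i).succ.succ) ≠ 0 := fun i e => by
          have := T.1.injective (e.trans h1.symm)
          rw [show (1 : Fin (M + 2)) = Fin.succ 0 from rfl] at this
          exact Fin.succ_ne_zero _ (Fin.succ_injective _ this)
        refine ⟨⟨fun i => (T.1 ((g i).succ.succ)).pred (hne i), fun i j e => ?_⟩, Function.Embedding.ext fun i => ?_⟩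
        · exact g.injective (Fin.succ_injective _ (Fin.succ_injective _ (T.1.injective (Fin.pred_inj.1 e))))
        · exact Fin.succ_pred (T.1 ((g i).succ.succ)) (hne i)
      obtain ⟨τ, ρ, hρ, e⟩ := D.exists_rep ((g.trans (Fin.succEmb M)).trans (reg hn1))
      refine ⟨eF g' y, ?_, ?_⟩
      · rw [emb_eq_eF, emb_eq_eF, emb_eq_eF, eF_trans, eF_trans, eF_trans, hg', ← eF_conj, ← map_inv, hinv]; rfl
      · rw [emb_eq_eF, eF_trans, hG.blk _ τ ρ hρ e y hy,
          hG.blk g' (altVia (reg hn2) T * τ) ρ hρ ?_ y hy, map_mul D.α]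
        · rw [mul_inv_rev, ← map_inv D.α (altVia (reg hn2) T), ← map_inv (altVia (reg hn2)), hinv]
          group
        · rw [← reg_succ hn2 hn1]
          refine Function.Embedding.ext fun i => ?_
          show (reg hn2) (g'.trans (Fin.succEmb (M + 1)) i) =
            (altVia (reg hn2) T).1 (((D.g₀.trans (reg D.hn)).trans τ.1.toEmbedding) (ρ i))
          rw [hg', show ((D.g₀.trans (reg D.hn)).trans τ.1.toEmbedding) (ρ i) =
            (reg hn2) ((g i).succ.succ) from (DFunLike.congr_fun e i).symm.trans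
              (congrArg (fun f : Fin (M + 1) ↪ Fin n => f (g i).succ) (reg_succ hn2 hn1).symm), altVia_apply]
          rfl
  i2 := ⟨2, by omega⟩
  hi2 := rfl
  htri := by
    obtain ⟨T, hT⟩ : ∃ T, T = tw (M := M) (by omega) := ⟨_, rfl⟩
    rw [← hT]
    obtain ⟨a, ha⟩ : ∃ a, a = altVia (Fin.castLEEmb (show 3 ≤ M + 1 by omega)) rot3 := ⟨_, rfl⟩
    have a0 : a.1 0 = ⟨1, by omega⟩ := by
      rw [ha]; exact altVia_apply (Fin.castLEEmb _) rot3 0
    have a1 : a.1 ⟨1, by omega⟩ = ⟨2, by omega⟩ := by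
      rw [ha]; exact altVia_apply (Fin.castLEEmb _) rot3 1
    obtain ⟨a', ha'⟩ : ∃ a', a' = altVia (Fin.succEmb (M + 1)) a := ⟨_, rfl⟩
    obtain ⟨b', hb'⟩ : ∃ b', b' = altVia (Fin.succEmb (M + 1)) (a * a) := ⟨_, rfl⟩
    have a'1 : a'.1 1 = ⟨2, by omega⟩ := by
      rw [ha']
      refine (altVia_apply (Fin.succEmb (M + 1)) a 0).trans ?_
      rw [a0]; rfl
    have b'1 : b'.1 1 = ⟨3, by omega⟩ := by
      rw [hb']
      refine (altVia_apply (Fin.succEmb (M + 1)) (a * a) 0).trans ?_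
      rw [Subgroup.coe_mul, Equiv.Perm.mul_apply, a0, a1]; rfl
    have h0 : T.1 0 = 1 := by rw [hT]; exact altVia_apply (Fin.castLEEmb (by omega)) dbl 0
    have h2 : T.1 ⟨2, by omega⟩ = ⟨3, by omega⟩ := by
      rw [hT]; exact altVia_apply (Fin.castLEEmb (by omega)) dbl 2
    obtain ⟨c, hc⟩ := exists_altVia_succ (x := (b' * T)⁻¹ * (T * a' * T)) (by
      show (b'.1 * T.1)⁻¹ ((T.1 * a'.1 * T.1) 0) = 0
      rw [Equiv.Perm.inv_eq_iff_eq, Equiv.Perm.mul_apply, Equiv.Perm.mul_apply, Equiv.Perm.mul_apply, h0, a'1,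
        b'1, h2])
    have hc' : T * a' * T = b' * T * altVia (Fin.succEmb (M + 1)) c := by rw [hc, mul_inv_cancel_left]
    refine ⟨permSU F q (M + 1) a, permSU F q (M + 1) (a * a), permSU F q (M + 1) c, ?_, ?_, ?_⟩
    · rw [emb_eq_eF, eF_perm, ← ha', act_perm_std, a'1]
    · rw [emb_eq_eF, emb_eq_eF, emb_eq_eF, eF_perm, eF_perm, eF_perm, ← ha', ← hb', ← map_mul, ← map_mul, ← map_mul,
        ← map_mul, hc']
    · simp only [hG.perm, ← reg_succ hn2 hn1, ← altVia_trans, ← ha', ← hb', ← map_mul, hc']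

/-- one more coordinate -/
theorem step {M : ℕ} (hM : 3 ≤ M) (hn1 : M + 1 ≤ n) (hn2 : M + 2 ≤ n) (Φ : Cfsg.SU (M + 1) F q →* P)
    (hG : D.Good hn1 Φ) (hcl : (D.toExt hF hM hn1 hn2 Φ hG).cover.Closes) :
    ∃ Ψ : Cfsg.SU (M + 2) F q →* P, D.Good hn2 Ψ := by
  obtain ⟨Ψ, hΨ, hΨT⟩ := (D.toExt hF hM hn1 hn2 Φ hG).exists_lift hcl
  replace hΨ : ∀ A, Ψ (emb (M + 1) A) = Φ A := hΨ
  obtain ⟨T, hT⟩ : ∃ T, T = tw (show 4 ≤ M + 2 by omega) := ⟨_, rfl⟩
  have hT0 : T.1 0 = 1 := by rw [hT]; exact altVia_apply (Fin.castLEEmb (by omega)) dbl 0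
  replace hΨT : Ψ (permSU F q (M + 2) T) = D.α (altVia (reg hn2) T) := by rw [hT]; exact hΨT
  have hlow : ∀ x : alternatingGroup (Fin (M + 1)),
      Ψ (permSU F q (M + 2) (altVia (Fin.succEmb (M + 1)) x)) =
        D.α (altVia (reg hn2) (altVia (Fin.succEmb (M + 1)) x)) := fun x => by
    rw [← eF_perm, ← emb_eq_eF, hΨ, hG.perm, altVia_trans, reg_succ hn2 hn1]
  have hperm : ∀ x, Ψ (permSU F q (M + 2) x) = D.α (altVia (reg hn2) x) := by
    intro x
    by_cases hx : x.1 0 = 0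
    · obtain ⟨x', rfl⟩ := exists_altVia_succ hx
      exact hlow x'
    · obtain ⟨j, hj⟩ := Fin.exists_succ_eq.2 hx
      obtain ⟨y, hy⟩ := exists_alt_move (show 3 ≤ M + 1 by omega) 0 j
      obtain ⟨Y', hY'⟩ : ∃ Y', Y' = altVia (Fin.succEmb (M + 1)) y := ⟨_, rfl⟩
      have hY1 : Y'.1 1 = x.1 0 := by
        rw [hY', ← hj, ← hy]
        exact altVia_apply (Fin.succEmb (M + 1)) y 0
      obtain ⟨z, hz⟩ := exists_altVia_succ (x := (Y' * T)⁻¹ * x) (by
        show (Y'.1 * T.1)⁻¹ (x.1 0) = 0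
        rw [Equiv.Perm.inv_eq_iff_eq, Equiv.Perm.mul_apply, hT0, hY1])
      rw [show x = Y' * T * altVia (Fin.succEmb (M + 1)) z by rw [hz, mul_inv_cancel_left]]
      simp only [map_mul, hlow, hΨT, hY']
  refine ⟨Ψ, hperm, fun g τ ρ hρ e y hy => ?_⟩
  have havoid : ∀ (g : Fin s ↪ Fin (M + 2)), (∀ i, g i ≠ 0) → ∀ (τ : alternatingGroup (Fin n)), ∀ ρ ∈ D.Γ,
      g.trans (reg hn2) = ρ.toEmbedding.trans ((D.g₀.trans (reg D.hn)).trans τ.1.toEmbedding) →
      Ψ (eF g y) = D.α τ * D.ψ (eF D.g₀ y) * (D.α τ)⁻¹ := by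
    intro g hg τ ρ hρ e
    obtain ⟨g', rfl⟩ : ∃ g' : Fin s ↪ Fin (M + 1), g'.trans (Fin.succEmb (M + 1)) = g :=
      ⟨⟨fun i => (g i).pred (hg i), fun i j e => g.injective (Fin.pred_inj.1 e)⟩,
        Function.Embedding.ext fun i => Fin.succ_pred (g i) (hg i)⟩
    rw [← eF_trans, ← emb_eq_eF, hΨ]
    refine hG.blk g' τ ρ hρ ?_ y hy
    rw [← e, ← reg_succ hn2 hn1]
    rfl
  obtain ⟨j, hj⟩ : ∃ j, ∀ i, g i ≠ j := by
    by_contra hc
    push Not at hc
    have := Fintype.card_le_of_surjective g hc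
    rw [Fintype.card_fin, Fintype.card_fin] at this
    have := D.hs
    omega
  obtain ⟨σ, hσ⟩ := exists_alt_move (show 3 ≤ M + 2 by omega) j 0
  have h := havoid (g.trans σ.1.toEmbedding) (fun i e' => hj i (σ.1.injective (e'.trans hσ.symm)))
    (altVia (reg hn2) σ * τ) ρ hρ (Function.Embedding.ext fun i => by
      show reg hn2 (σ.1 (g i)) = (altVia (reg hn2) σ).1 (((D.g₀.trans (reg D.hn)).trans τ.1.toEmbedding) (ρ i))
      rw [show ((D.g₀.trans (reg D.hn)).trans τ.1.toEmbedding) (ρ i) = reg hn2 (g i) from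
        (DFunLike.congr_fun e i).symm, altVia_apply])
  rw [← eF_conj, map_mul, map_mul, map_inv, hperm, map_mul] at h
  calc Ψ (eF g y) = (D.α (altVia (reg hn2) σ))⁻¹ *
        (D.α (altVia (reg hn2) σ) * Ψ (eF g y) * (D.α (altVia (reg hn2) σ))⁻¹) * D.α (altVia (reg hn2) σ) := by group
    _ = _ := by rw [h]; group

theorem exists_good (hcl : ∀ (M : ℕ) (hM : 3 ≤ M) (hn1 : M + 1 ≤ n) (hn2 : M + 2 ≤ n)
      (Φ : Cfsg.SU (M + 1) F q →* P) (hG : D.Good hn1 Φ), (D.toExt hF hM hn1 hn2 Φ hG).cover.Closes)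
    (m : ℕ) (h4 : 4 ≤ m) : ∀ hm : m ≤ n, ∃ Φ : Cfsg.SU m F q →* P, D.Good hm Φ := by
  induction m, h4 using Nat.le_induction with
  | base => exact fun _ => ⟨D.ψ, D.good_four⟩
  | succ m h4 ih =>
    intro hm
    obtain ⟨M, rfl⟩ : ∃ M, m = M + 1 := ⟨m - 1, by omega⟩
    obtain ⟨Φ, hΦ⟩ := ih (by omega)
    exact D.step hF (by omega) _ hm Φ hΦ (hcl M (by omega) _ hm Φ hΦ)

include hF in
/-- the data present `SU n` -/
theorem bijective (hcl : ∀ (M : ℕ) (hM : 3 ≤ M) (hn1 : M + 1 ≤ n) (hn2 : M + 2 ≤ n)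
      (Φ : Cfsg.SU (M + 1) F q →* P) (hG : D.Good hn1 Φ), (D.toExt hF hM hn1 hn2 Φ hG).cover.Closes)
    (hgen : D.ψ.range ⊔ D.α.range = ⊤) (θ : P →* Cfsg.SU n F q)
    (hθψ : ∀ A, θ (D.ψ A) = eF (reg D.hn) A) (hθα : ∀ x, θ (D.α x) = permSU F q n x) :
    Function.Bijective θ := by
  have h4 := D.hn
  obtain ⟨Φ, hΦ⟩ := D.exists_good hF hcl n h4 le_rfl
  have hcomp : θ.comp Φ = eF (reg le_rfl) := by
    refine MonoidHom.eq_of_eqOn_dense (D.gen _ (by omega)) ?_
    rintro _ (⟨x, rfl⟩ | ⟨g, y, hy, rfl⟩)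
    · rw [MonoidHom.comp_apply, hΦ.perm, hθα, eF_perm]
    · obtain ⟨τ, ρ, hρ, e⟩ := D.exists_rep (g.trans (reg le_rfl))
      rw [MonoidHom.comp_apply, hΦ.blk g τ ρ hρ e y hy, map_mul, map_mul, map_inv, hθα, hθψ, eF_trans, eF_conj,
        eF_trans, e, D.sym ρ hρ y hy]
  have hαr : D.α.range ≤ Φ.range := by
    rintro _ ⟨x, rfl⟩
    exact ⟨permSU F q _ (altVia (reg le_rfl) x), by rw [hΦ.perm, altVia_trans, reg_reg, altVia_refl]⟩
  have hsurj : Φ.range = ⊤ := by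
    rw [eq_top_iff, ← hgen]
    refine sup_le ?_ hαr
    rw [MonoidHom.range_eq_map, ← D.gen 4 (by norm_num), Subgroup.map_le_iff_le_comap, Subgroup.closure_le]
    rintro _ (⟨x, rfl⟩ | ⟨g, y, hy, rfl⟩)
    · exact hαr ⟨_, (D.agree x).symm⟩
    · obtain ⟨τ, ρ, hρ, e⟩ := D.exists_rep (g.trans (reg D.hn))
      refine ⟨eF ((g.trans (reg D.hn)).trans (reg le_rfl)) y, ?_⟩
      rw [D.good_four.blk g τ ρ hρ e y hy, hΦ.blk _ τ ρ hρ ?_ y hy]
      rw [← e]
      refine Function.Embedding.ext fun i => ?_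
      exact DFunLike.congr_fun (reg_reg (n := n) le_rfl) _
  have hb : Function.Bijective (eF (F := F) (q := q) (reg (n := n) le_rfl)) :=
    Function.Involutive.bijective fun A => by rw [eF_trans, reg_reg, eF_refl]
  rw [← hcomp, MonoidHom.coe_comp] at hb
  have hΦb : Function.Surjective Φ := MonoidHom.range_eq_top.1 hsurj
  exact ⟨hb.1.of_comp_right hΦb, hb.2.of_comp⟩

end Amal

end CfsgLib.Known.SUBounded
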