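import Cfsg.Agent.Lib.Known.SUBounded.Step
import Cfsg.Agent.Lib.Known.ClassicalSections
import Cfsg.Agent.Lib.Perm.AltBounded.Labels

/-!
# Coordinate subgroups of `SU n` and the permutation matrices
-/

set_option autoImplicit false

namespace CfsgLib.Known.SUBounded

open Matrix (SpecialLinearGroup)
open CfsgLib.Perm.AltBounded (viaHom viaHom_apply viaHom_fix viaHom_sign)
open CfsgLib.Known.ClassicalSections (blockSL altSL)

variable {F : Type*} [Field F] {q : ℕ} {s m n : ℕ}

theorem act_ext {g h : Cfsg.SU n F q} (e : ∀ v, act g v = act h v) : g = h :=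
  Subtype.ext (Subtype.ext (Matrix.mulVec_injective (funext e)))

/-- the even permutations -/
def altVia (f : Fin m ↪ Fin n) : alternatingGroup (Fin m) →* alternatingGroup (Fin n) :=
  ((viaHom f).comp (alternatingGroup (Fin m)).subtype).codRestrict _ fun x =>
    Equiv.Perm.mem_alternatingGroup.2 (by
      show Equiv.Perm.sign (viaHom f x.1) = 1
      rw [viaHom_sign]; exact Equiv.Perm.mem_alternatingGroup.1 x.2)

theorem altVia_apply (f : Fin m ↪ Fin n) (x : alternatingGroup (Fin m)) (a : Fin m) :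
    (altVia f x).1 (f a) = f (x.1 a) := viaHom_apply f x.1 a

theorem altVia_fix (f : Fin m ↪ Fin n) (x : alternatingGroup (Fin m)) {b : Fin n} (hb : ∀ a, f a ≠ b) :
    (altVia f x).1 b = b := viaHom_fix f x.1 hb

theorem altVia_trans {l : ℕ} (f : Fin l ↪ Fin m) (g : Fin m ↪ Fin n) (x : alternatingGroup (Fin l)) :
    altVia g (altVia f x) = altVia (f.trans g) x := by
  refine Subtype.ext (Equiv.ext fun b => ?_)
  by_cases hb : ∃ a, g a = b
  · obtain ⟨a, rfl⟩ := hb
    rw [altVia_apply]
    by_cases ha : ∃ a', f a' = a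
    · obtain ⟨a', rfl⟩ := ha
      rw [altVia_apply]
      exact (altVia_apply (f.trans g) x a').symm
    · rw [altVia_fix f x (fun a' e => ha ⟨a', e⟩)]
      exact (altVia_fix _ _ fun a' e => ha ⟨a', g.injective e⟩).symm
  · rw [altVia_fix g _ (fun a e => hb ⟨a, e⟩)]
    exact (altVia_fix _ _ fun a' e => hb ⟨f a', e⟩).symm

theorem hermForm_comp (σ : Equiv.Perm (Fin n)) (u v : Fin n → F) :
    Cfsg.hermForm n F q (u ∘ σ) (v ∘ σ) = Cfsg.hermForm n F q u v := by
  simp only [Cfsg.hermForm, Function.comp_apply]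
  exact Equiv.sum_comp σ (fun i => u i * v i ^ q)

theorem altSL_mulVec (σ : alternatingGroup (Fin n)) (v : Fin n → F) :
    Matrix.mulVec ((altSL (F := F) n σ : SpecialLinearGroup (Fin n) F) : Matrix (Fin n) (Fin n) F) v = v ∘ σ.1.symm := by
  funext i
  show Matrix.mulVec (Matrix.permMatrixHom (n := Fin n) (R := F) σ.1) v i = _
  rw [Matrix.permMatrixHom_apply, Matrix.mulVec, dotProduct, Finset.sum_eq_single (σ.1.symm i)]
  · simp [Equiv.Perm.permMatrix, PEquiv.toMatrix_apply, Equiv.toPEquiv_apply, Equiv.Perm.inv_def]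
  · intro j _ hj
    simp [Equiv.Perm.permMatrix, PEquiv.toMatrix_apply, Equiv.toPEquiv_apply, Equiv.Perm.inv_def, Ne.symm hj]
  · simp

/-- the permutation matrices -/
def permSU (F : Type*) [Field F] (q n : ℕ) : alternatingGroup (Fin n) →* Cfsg.SU n F q :=
  (altSL (F := F) n).codRestrict _ fun σ u v => by
    show Cfsg.hermForm n F q (Matrix.mulVec (altSL (F := F) n σ).1 u) (Matrix.mulVec (altSL (F := F) n σ).1 v) = _
    rw [altSL_mulVec, altSL_mulVec]
    exact hermForm_comp _ u v

theorem act_perm (σ : alternatingGroup (Fin n)) (v : Fin n → F) : act (permSU F q n σ) v = v ∘ σ.1.symm :=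
  altSL_mulVec σ v

theorem act_perm_std (σ : alternatingGroup (Fin n)) (i : Fin n) :
    act (permSU F q n σ) (std i) = (std (σ.1 i) : Fin n → F) := by
  rw [act_perm]
  funext j
  simp [std, Pi.single_apply, Equiv.symm_apply_eq]

theorem perm_inv_act (σ : alternatingGroup (Fin n)) (v : Fin n → F) :
    act (permSU F q n σ)⁻¹ v = v ∘ σ.1 := act_inv_eq (by rw [act_perm]; funext j; simp)

/-- the coordinates of a block first -/
noncomputable def sumOf (f : Fin s ↪ Fin n) : Fin s ⊕ {j : Fin n // j ∉ Set.range f} ≃ Fin n :=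
  (Equiv.sumCongr (Equiv.ofInjective f f.injective) (Equiv.refl _)).trans (Equiv.Set.sumCompl (Set.range f))

theorem sumOf_inl (f : Fin s ↪ Fin n) (a : Fin s) : sumOf f (Sum.inl a) = f a := rfl

theorem sumOf_inr (f : Fin s ↪ Fin n) (b : {j : Fin n // j ∉ Set.range f}) : sumOf f (Sum.inr b) = b.1 := rfl

open scoped _root_.Classical in
theorem blockSL_mulVec (f : Fin s ↪ Fin n) (A : SpecialLinearGroup (Fin s) F) (v : Fin n → F) :
    Matrix.mulVec ((blockSL (sumOf f) A : SpecialLinearGroup (Fin n) F) : Matrix (Fin n) (Fin n) F) v =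
      Function.extend f (Matrix.mulVec A.1 (v ∘ f)) v := by
  funext i
  obtain ⟨x, rfl⟩ := (sumOf f).surjective i
  show Matrix.mulVec (Matrix.reindex (sumOf f) (sumOf f) (Matrix.fromBlocks A.1 0 0 1)) v (sumOf f x) = _
  rw [Matrix.mulVec, dotProduct, ← (sumOf f).sum_comp, Fintype.sum_sum_type]
  simp only [Matrix.reindex_apply, Matrix.submatrix_apply, Equiv.symm_apply_apply]
  rcases x with a | b
  · simp only [Matrix.fromBlocks_apply₁₁,
      Matrix.fromBlocks_apply₁₂, Matrix.zero_apply, zero_mul, Finset.sum_const_zero, add_zero, sumOf_inl]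
    rw [f.injective.extend_apply]
    simp [Matrix.mulVec, dotProduct]
  · simp only [Matrix.fromBlocks_apply₂₁,
      Matrix.fromBlocks_apply₂₂, Matrix.zero_apply, zero_mul, Finset.sum_const_zero, zero_add, sumOf_inr]
    rw [Function.extend_apply' _ _ _ (fun ⟨a, ha⟩ => b.2 ⟨a, ha⟩), Finset.sum_eq_single b]
    · simp
    · intro j _ hj; simp [Ne.symm hj]
    · simp

theorem hermForm_extend (f : Fin s ↪ Fin n) (u' v' : Fin s → F) (u v : Fin n → F)
    (h : Cfsg.hermForm s F q u' v' = Cfsg.hermForm s F q (u ∘ f) (v ∘ f)) :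
    Cfsg.hermForm n F q (Function.extend f u' u) (Function.extend f v' v) = Cfsg.hermForm n F q u v := by
  classical
  simp only [Cfsg.hermForm] at h ⊢
  rw [← (sumOf f).sum_comp, ← (sumOf f).sum_comp (fun i => u i * v i ^ q), Fintype.sum_sum_type, Fintype.sum_sum_type]
  congr 1
  · simp only [sumOf_inl, f.injective.extend_apply]; exact h
  · refine Finset.sum_congr rfl fun b _ => ?_
    simp only [sumOf_inr]
    rw [Function.extend_apply' _ _ _ (fun ⟨a, ha⟩ => b.2 ⟨a, ha⟩),
      Function.extend_apply' _ _ _ (fun ⟨a, ha⟩ => b.2 ⟨a, ha⟩)]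

open scoped _root_.Classical in
/-- a block at given coordinates -/
noncomputable def eF (f : Fin s ↪ Fin n) : Cfsg.SU s F q →* Cfsg.SU n F q :=
  ((blockSL (sumOf f)).comp (Cfsg.SU s F q).subtype).codRestrict _ fun A u v => by
    show Cfsg.hermForm n F q (Matrix.mulVec (blockSL (sumOf f) A.1).1 u)
      (Matrix.mulVec (blockSL (sumOf f) A.1).1 v) = _
    rw [blockSL_mulVec, blockSL_mulVec]
    exact hermForm_extend f _ _ u v (A.2 _ _)

theorem act_eF (f : Fin s ↪ Fin n) (A : Cfsg.SU s F q) (v : Fin n → F) :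
    act (eF f A) v = Function.extend f (act A (v ∘ f)) v := by
  classical
  exact blockSL_mulVec f A.1 v

theorem eF_apply (f : Fin s ↪ Fin n) (A : Cfsg.SU s F q) (v : Fin n → F) (a : Fin s) :
    act (eF f A) v (f a) = act A (v ∘ f) a := by rw [act_eF, f.injective.extend_apply]

theorem eF_outside (f : Fin s ↪ Fin n) (A : Cfsg.SU s F q) (v : Fin n → F) {b : Fin n} (hb : ∀ a, f a ≠ b) :
    act (eF f A) v b = v b := by rw [act_eF, Function.extend_apply' _ _ _ (fun ⟨a, ha⟩ => hb a ha)]

theorem eF_trans (f : Fin s ↪ Fin m) (g : Fin m ↪ Fin n) (A : Cfsg.SU s F q) :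
    eF g (eF f A) = eF (f.trans g) A := by
  refine act_ext fun v => funext fun b => ?_
  by_cases hb : ∃ a, g a = b
  · obtain ⟨a, rfl⟩ := hb
    rw [eF_apply]
    by_cases ha : ∃ a', f a' = a
    · obtain ⟨a', rfl⟩ := ha
      rw [eF_apply]
      exact (eF_apply (f.trans g) A v a').symm
    · rw [eF_outside f A _ (fun a' e => ha ⟨a', e⟩)]
      exact (eF_outside _ A v fun a' e => ha ⟨a', g.injective e⟩).symm
  · rw [eF_outside g _ _ (fun a e => hb ⟨a, e⟩)]
    exact (eF_outside _ A v fun a' e => hb ⟨f a', e⟩).symm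

theorem eF_perm (f : Fin m ↪ Fin n) (x : alternatingGroup (Fin m)) :
    eF f (permSU F q m x) = permSU F q n (altVia f x) := by
  refine act_ext fun v => funext fun b => ?_
  rw [act_perm (altVia f x)]
  by_cases hb : ∃ a, f a = b
  · obtain ⟨a, rfl⟩ := hb
    rw [eF_apply, act_perm]
    show v (f (x.1.symm a)) = v ((altVia f x).1.symm (f a))
    congr 1
    rw [Equiv.eq_symm_apply, altVia_apply, Equiv.apply_symm_apply]
  · rw [eF_outside f _ _ (fun a e => hb ⟨a, e⟩)]
    show v b = v ((altVia f x).1.symm b)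
    congr 1
    rw [Equiv.eq_symm_apply, altVia_fix f x fun a e => hb ⟨a, e⟩]

theorem eF_conj (σ : alternatingGroup (Fin n)) (f : Fin s ↪ Fin n) (A : Cfsg.SU s F q) :
    permSU F q n σ * eF f A * (permSU F q n σ)⁻¹ = eF (f.trans σ.1.toEmbedding) A := by
  refine act_ext fun v => funext fun b => ?_
  rw [act_mul, act_mul, act_perm, perm_inv_act]
  obtain ⟨c, rfl⟩ := σ.1.surjective b
  show act (eF f A) (v ∘ σ.1) (σ.1.symm (σ.1 c)) = _
  rw [Equiv.symm_apply_apply]
  by_cases hc : ∃ a, f a = c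
  · obtain ⟨a, rfl⟩ := hc
    rw [eF_apply]
    exact (eF_apply (f.trans σ.1.toEmbedding) A v a).symm
  · rw [eF_outside f A _ (fun a e => hc ⟨a, e⟩)]
    exact (eF_outside _ A v fun a e => hc ⟨a, σ.1.injective e⟩).symm

theorem emb_eq_eF {k : ℕ} (A : Cfsg.SU k F q) : emb k A = eF (Fin.succEmb k) A := by
  refine act_ext fun v => funext fun b => ?_
  cases b using Fin.cases with
  | zero =>
    rw [eF_outside (Fin.succEmb k) A v (fun a => Fin.succ_ne_zero a)]
    simp [act, coe_emb, SpBounded.coe_bs, Matrix.mulVec, dotProduct, Fin.sum_univ_succ]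
  | succ i =>
    rw [show i.succ = Fin.succEmb k i from rfl, eF_apply]
    simp [act, coe_emb, SpBounded.coe_bs, Matrix.mulVec, dotProduct, Fin.sum_univ_succ]

end CfsgLib.Known.SUBounded
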