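import Mathlib

/-!
# A group generated by a vertex stabiliser and one edge element

If a group acts on a graph in which short closed walks are made of triangles, it is generated by a subgroup
fixing a vertex and an element moving that vertex to a neighbour, and edges and triangles lift, then only the
identity acts trivially.
-/

set_option autoImplicit false

namespace CfsgLib.Known.SUBounded

/-- common neighbours joined by a path of common neighbours -/
def Conn {X : Type*} (A : X → X → Prop) (u v a b : X) : Prop :=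
  Relation.ReflTransGen (fun x y => A x y ∧ A u y ∧ A y v) a b

/-- every edge is close to the base vertex -/
structure Local {X : Type*} (A : X → X → Prop) (e : X) : Prop where
  irrefl : ∀ x, ¬ A x x
  symm : ∀ x y, A x y → A y x
  third : ∀ v w, A v w → ∃ c, A e c ∧ A c v ∧ A c w

/-- short closed walks are made of triangles -/
structure Tight {X : Type*} (A : X → X → Prop) (e : X) : Prop extends Local A e where
  quad : ∀ u v a b, A u a → A a v → A u b → A b v →
    u = v ∨ A u v ∨ Conn A u v a b ∨ ∃ w, A a w ∧ A b w ∧ Conn A u w a b ∧ Conn A w v a b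

/-- the data of the action -/
structure Cover (G X : Type*) [Group G] [MulAction G X] (A : X → X → Prop) (e e₁ : X) (E : Subgroup G) (t : G) :
    Prop where
  tight : Local A e
  equiv : ∀ (g : G) x y, A x y → A (g • x) (g • y)
  fix : ∀ a ∈ E, a • e = e
  gen : E ⊔ Subgroup.zpowers t = ⊤
  sq : t * t ∈ E
  edge : A e e₁
  move : t • e = e₁
  trans : ∀ c, A e c → ∃ a ∈ E, a • e₁ = c
  stab : ∀ a ∈ E, a • e₁ = e₁ → t⁻¹ * a * t ∈ E
  tri : ∀ c, A e c → A e₁ c → ∃ a ∈ E, a • e₁ = c ∧ ∃ b ∈ E, ∃ b' ∈ E, t⁻¹ * a * t = b * t * b'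

namespace Cover

variable {G X : Type*} [Group G] [MulAction G X] {A : X → X → Prop} {e e₁ : X} {E : Subgroup G} {t : G}
  (C : Cover G X A e e₁ E t)

/-- adjacency of cosets -/
def Adj (E : Subgroup G) (t : G) (x y : G ⧸ E) : Prop :=
  ∃ g : G, ∃ a ∈ E, x = (g : G ⧸ E) ∧ y = ((g * a * t : G) : G ⧸ E)

theorem mk_mul {g a : G} (ha : a ∈ E) : ((g * a : G) : G ⧸ E) = (g : G ⧸ E) :=
  QuotientGroup.eq.2 (by simpa using inv_mem ha)

include C in
theorem vert_eq {g h : G} (e' : (g : G ⧸ E) = (h : G ⧸ E)) : g • e = h • e := by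
  have hm := QuotientGroup.eq.1 e'
  rw [show h = g * (g⁻¹ * h) by group, mul_smul, C.fix _ hm]

/-- the vertex of a coset -/
noncomputable def vert (_C : Cover G X A e e₁ E t) (x : G ⧸ E) : X := x.out • e

theorem vert_mk (g : G) : C.vert (g : G ⧸ E) = g • e := C.vert_eq (QuotientGroup.out_eq' _)

include C in
theorem adj_edge {x y : G ⧸ E} (h : Adj E t x y) : A (C.vert x) (C.vert y) := by
  obtain ⟨g, a, ha, rfl, rfl⟩ := h
  rw [C.vert_mk, C.vert_mk, mul_smul, mul_smul, C.move]
  have := C.equiv (g * a) _ _ C.edge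
  rwa [mul_smul, mul_smul, C.fix a ha] at this

include C in
theorem adj_symm {x y : G ⧸ E} (h : Adj E t x y) : Adj E t y x := by
  obtain ⟨g, a, ha, rfl, rfl⟩ := h
  refine ⟨g * a * t, 1, one_mem _, rfl, ?_⟩
  rw [mul_one, mul_assoc _ t t, mul_assoc g, mk_mul (mul_mem ha C.sq)]

theorem adj_left {g : G} {x y : G ⧸ E} (h : Adj E t x y) : Adj E t (g • x) (g • y) := by
  obtain ⟨g', a, ha, rfl, rfl⟩ := h
  exact ⟨g * g', a, ha, rfl, by rw [MulAction.Quotient.smul_coe, smul_eq_mul]; congr 1; group⟩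

include C in
theorem lift_exists (x : G ⧸ E) {v : X} (hv : A (C.vert x) v) : ∃ y, Adj E t x y ∧ C.vert y = v := by
  obtain ⟨g, rfl⟩ := QuotientGroup.mk_surjective x
  rw [C.vert_mk] at hv
  have := C.equiv g⁻¹ _ _ hv
  rw [inv_smul_smul] at this
  obtain ⟨a, ha, hav⟩ := C.trans _ this
  refine ⟨((g * a * t : G) : G ⧸ E), ⟨g, a, ha, rfl, rfl⟩, ?_⟩
  rw [C.vert_mk, mul_smul, mul_smul, C.move, hav, smul_inv_smul]

include C in
theorem lift_unique {x y y' : G ⧸ E} (h : Adj E t x y) (h' : Adj E t x y') (he : C.vert y = C.vert y') :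
    y = y' := by
  obtain ⟨g, a, ha, rfl, rfl⟩ := h
  obtain ⟨g', a', ha', hg, rfl⟩ := h'
  obtain ⟨c, hc, rfl⟩ : ∃ c ∈ E, g' = g * c := ⟨g⁻¹ * g', QuotientGroup.eq.1 hg, by group⟩
  rw [C.vert_mk, C.vert_mk] at he
  simp only [mul_smul, C.move, smul_left_cancel_iff] at he
  refine QuotientGroup.eq.2 ?_
  have hs : (a⁻¹ * (c * a')) • e₁ = e₁ := by rw [mul_smul, mul_smul, ← he, inv_smul_smul]
  have := C.stab _ (mul_mem (inv_mem ha) (mul_mem hc ha')) hs
  convert this using 1
  group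

include C in
theorem triangle {x y z : G ⧸ E} (h : Adj E t x y) (h' : Adj E t y z) (he : A (C.vert x) (C.vert z)) :
    Adj E t x z := by
  obtain ⟨g, a, ha, rfl, rfl⟩ := h
  have h1 := C.equiv (g * a)⁻¹ _ _ he
  have h2 := C.equiv (g * a)⁻¹ _ _ (C.adj_edge h')
  rw [C.vert_mk] at h1 h2
  rw [show (g * a)⁻¹ • g • e = e by
    rw [inv_smul_eq_iff, mul_smul, C.fix a ha]] at h1
  rw [show (g * a)⁻¹ • (g * a * t) • e = e₁ by rw [← mul_smul, inv_mul_cancel_left, C.move]] at h2
  obtain ⟨c, hc, hce, b, hb, b', hb', hrel⟩ := C.tri _ h1 h2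
  suffices hz : ((g * a * c * t : G) : G ⧸ E) = z by
    rw [← hz]
    exact ⟨g, a * c, mul_mem ha hc, rfl, by rw [mul_assoc g a c]⟩
  refine C.lift_unique ?_ h' ?_
  · refine ⟨g * a * t, b, hb, rfl, ?_⟩
    rw [show g * a * c * t = g * a * t * (t⁻¹ * c * t) by group, hrel, ← mul_assoc, mk_mul hb', ← mul_assoc]
  · rw [C.vert_mk, mul_smul, C.move, mul_smul, hce, smul_inv_smul]

include C in
theorem conn_eq {x : G ⧸ E} {v a b : X} (hc : Conn A (C.vert x) v a b) (hau : A (C.vert x) a) (hav : A a v)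
    {xa ya xb yb : G ⧸ E} (h1 : Adj E t x xa) (h2 : C.vert xa = a) (h3 : Adj E t xa ya) (h4 : C.vert ya = v)
    (h5 : Adj E t x xb) (h6 : C.vert xb = b) (h7 : Adj E t xb yb) (h8 : C.vert yb = v) : ya = yb := by
  induction hc generalizing xb yb with
  | refl =>
    obtain rfl := C.lift_unique h1 h5 (h2.trans h6.symm)
    exact C.lift_unique h3 h7 (h4.trans h8.symm)
  | @tail c d _ hcd ih =>
    obtain ⟨hcd1, hud, hdv⟩ := hcd
    rename_i hc'
    obtain ⟨huc, hcv⟩ : A (C.vert x) c ∧ A c v := by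
      rcases Relation.ReflTransGen.cases_tail hc' with rfl | ⟨d', -, -, hud', hdv'⟩
      · exact ⟨hau, hav⟩
      · exact ⟨hud', hdv'⟩
    obtain ⟨xc, h9, h10⟩ : ∃ xc, Adj E t xb xc ∧ C.vert xc = c :=
      C.lift_exists xb (by rw [h6]; exact C.tight.symm _ _ hcd1)
    have h11 : Adj E t x xc := C.triangle h5 h9 (by rw [h10]; exact huc)
    obtain ⟨yc, h12, h13⟩ := C.lift_exists xc (v := v) (by rw [h10]; exact hcv)
    rw [ih h11 h10 h12 h13]
    refine C.lift_unique (C.triangle h9 h12 (by rw [h6, h13]; exact hdv)) h7 ?_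
    rw [h13, h8]

/-- walks of length two with the same ends lift to walks with the same ends -/
def Closes : Prop :=
  ∀ x xa ya xb yb : G ⧸ E, Adj E t x xa → Adj E t xa ya → Adj E t x xb → Adj E t xb yb →
    C.vert ya = C.vert yb → ya = yb

include C in
theorem two_eq (hq : Tight A e) {x xa ya xb yb : G ⧸ E} (h1 : Adj E t x xa) (h2 : Adj E t xa ya) (h3 : Adj E t x xb)
    (h4 : Adj E t xb yb) (he : C.vert ya = C.vert yb) : ya = yb := by
  have a1 := C.adj_edge h1
  have a2 := C.adj_edge h2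
  have a3 := C.adj_edge h3
  have a4 := C.adj_edge h4
  rw [← he] at a4
  rcases hq.quad _ _ _ _ a1 a2 a3 a4 with huv | huv | hc | ⟨w, haw, hbw, hc1, hc2⟩
  · rw [← C.lift_unique (C.adj_symm h1) h2 huv, ← C.lift_unique (C.adj_symm h3) h4 (huv.trans he)]
  · exact C.lift_unique (C.triangle h1 h2 huv) (C.triangle h3 h4 (he ▸ huv)) he
  · exact C.conn_eq hc a1 a2 h1 rfl h2 rfl h3 rfl h4 he.symm
  · obtain ⟨z, hz1, hz2⟩ := C.lift_exists xa haw
    obtain ⟨z', hz3, hz4⟩ := C.lift_exists xb hbw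
    obtain rfl := C.conn_eq hc1 a1 haw h1 rfl hz1 hz2 h3 rfl hz3 hz4
    rw [← hz2] at hc2
    refine C.conn_eq hc2 (by rw [hz2]; exact C.tight.symm _ _ haw) a2 (C.adj_symm hz1) rfl h2 rfl
      (C.adj_symm hz3) rfl h4 he.symm

include C in
theorem closes_of_tight (hq : Tight A e) : C.Closes := fun _ _ _ _ _ h1 h2 h3 h4 he =>
  C.two_eq hq h1 h2 h3 h4 he

/-- cosets at distance at most two from the base -/
def Near (E : Subgroup G) (t : G) (y : G ⧸ E) : Prop :=
  y = (1 : G) ∨ Adj E t (1 : G) y ∨ ∃ z, Adj E t (1 : G) z ∧ Adj E t z y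

include C in
theorem near_step (hcl : C.Closes) {y z : G ⧸ E} (hy : Near E t y) (h : Adj E t y z) : Near E t z := by
  rcases hy with rfl | hy | ⟨m, hm, hmy⟩
  · exact Or.inr (Or.inl h)
  · exact Or.inr (Or.inr ⟨y, hy, h⟩)
  · obtain ⟨c, hec, hcv, hcw⟩ := C.tight.third _ _ (C.adj_edge h)
    have h1 : C.vert ((1 : G) : G ⧸ E) = e := by rw [C.vert_mk, one_smul]
    obtain ⟨xc, hx1, hx2⟩ := C.lift_exists _ (h1 ▸ hec)
    obtain ⟨yc, hy1, hy2⟩ := C.lift_exists xc (hx2 ▸ hcv)
    obtain rfl := hcl _ _ _ _ _ hm hmy hx1 hy1 hy2.symm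
    exact Or.inr (Or.inr ⟨xc, hx1, C.triangle hy1 h (hx2 ▸ hcw)⟩)

include C in
theorem near_all (hcl : C.Closes) (x : G ⧸ E) : Near E t x := by
  obtain ⟨g, rfl⟩ := QuotientGroup.mk_surjective x
  let S : Subgroup G :=
    { carrier := {g | Relation.ReflTransGen (Adj E t) ((1 : G) : G ⧸ E) (g : G ⧸ E)}
      one_mem' := Relation.ReflTransGen.refl
      mul_mem' := fun {a b} ha hb => by
        have : Relation.ReflTransGen (Adj E t) (a • ((1 : G) : G ⧸ E)) (a • (b : G ⧸ E)) :=
          Relation.ReflTransGen.lift (fun x => a • x) (fun _ _ h => adj_left h) _ _ hb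
        rw [MulAction.Quotient.smul_coe, MulAction.Quotient.smul_coe, smul_eq_mul, smul_eq_mul, mul_one] at this
        exact ha.trans this
      inv_mem' := fun {a} ha => by
        have : Relation.ReflTransGen (Adj E t) (a⁻¹ • ((1 : G) : G ⧸ E)) (a⁻¹ • (a : G ⧸ E)) :=
          Relation.ReflTransGen.lift (fun x => a⁻¹ • x) (fun _ _ h => adj_left h) _ _ ha
        rw [MulAction.Quotient.smul_coe, MulAction.Quotient.smul_coe, smul_eq_mul, smul_eq_mul, mul_one,
          inv_mul_cancel] at this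
        have _hs : Std.Symm (Adj E t) := ⟨fun _ _ h => C.adj_symm h⟩
        exact Relation.ReflTransGen.stdSymm.symm _ _ this }
  have hE : E ≤ S := fun a ha => by
    show Relation.ReflTransGen _ _ _
    rw [show (a : G ⧸ E) = ((1 : G) : G ⧸ E) from QuotientGroup.eq.2 (by simpa using inv_mem ha)]
  have ht : t ∈ S := Relation.ReflTransGen.single ⟨1, 1, one_mem _, rfl, by rw [one_mul, one_mul]⟩
  have hS : g ∈ S := (C.gen.ge.trans (sup_le hE (Subgroup.zpowers_le.2 ht))) (Subgroup.mem_top g)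
  have key : ∀ y : G ⧸ E, Relation.ReflTransGen (Adj E t) ((1 : G) : G ⧸ E) y → Near E t y := fun y hy => by
    induction hy with
    | refl => exact Or.inl rfl
    | tail _ h ih => exact C.near_step hcl ih h
  exact key _ hS

include C in
/-- the stabiliser of the base vertex -/
theorem mem_of_fix (hcl : C.Closes) {g : G} (hg : g • e = e) : g ∈ E := by
  have h0 : C.vert ((1 : G) : G ⧸ E) = e := by rw [C.vert_mk, one_smul]
  rcases C.near_all hcl (g : G ⧸ E) with h | h | ⟨z, h1, h2⟩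
  · simpa using inv_mem (QuotientGroup.eq.1 h)
  · have := C.adj_edge h
    rw [h0, C.vert_mk, hg] at this
    exact absurd this (C.tight.irrefl e)
  · have := C.lift_unique (C.adj_symm h1) h2 (by rw [h0, C.vert_mk, hg])
    simpa using QuotientGroup.eq.1 this

include C in
/-- the action is faithful as soon as it is on the vertex stabiliser -/
theorem injective (hcl : C.Closes) {H : Type*} [Group H] (θ : G →* H) (hker : ∀ g, θ g = 1 → g • e = e)
    (hinj : ∀ a ∈ E, θ a = 1 → a = 1) : Function.Injective θ :=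
  (injective_iff_map_eq_one θ).2 fun g hg => hinj g (C.mem_of_fix hcl (hker g hg)) hg

end Cover

end CfsgLib.Known.SUBounded
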