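import Cfsg.Agent.Lib.Known.SUBounded.Amal
import Cfsg.Agent.Lib.Classical.Unitary.ThreeTwo

/-!
# Generation of `SU n` by permutation matrices and small blocks
-/

set_option autoImplicit false

namespace CfsgLib.Known.SUBounded

open CfsgLib.Classical CfsgLib.Classical.Herm

variable {F : Type*} [Field F] {q n s : ℕ}

/-- the candidates -/
def genSet (Y : Set (Cfsg.SU s F q)) (k : ℕ) : Set (Cfsg.SU k F q) :=
  Set.range (permSU F q k) ∪ {A | ∃ (g : Fin s ↪ Fin k) (y : Cfsg.SU s F q), y ∈ Y ∧ A = eF g y}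

theorem eF_sym (ρ : Equiv.Perm (Fin s)) (y : Cfsg.SU s F q)
    (hy : ∀ v, act y (v ∘ ρ) = act y v ∘ ρ) {k : ℕ} (g : Fin s ↪ Fin k) :
    eF (ρ.toEmbedding.trans g) y = eF g y := by
  refine act_ext fun v => funext fun b => ?_
  by_cases hb : ∃ a, g a = b
  · obtain ⟨a, rfl⟩ := hb
    obtain ⟨a', rfl⟩ := ρ.surjective a
    rw [eF_apply g y v (ρ a'), show g (ρ a') = (ρ.toEmbedding.trans g) a' from rfl, eF_apply]
    exact congrFun (hy (v ∘ g)) a'
  · rw [eF_outside g y v (fun a e => hb ⟨a, e⟩), eF_outside _ y v (fun a e => hb ⟨ρ a, e⟩)]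

theorem sym_of_gen {Y : Set (Cfsg.SU s F q)} (r : Equiv.Perm (Fin s))
    (hr : ∀ y ∈ Y, ∀ v, act y (v ∘ r) = act y v ∘ r) :
    ∀ ρ ∈ Subgroup.zpowers r, ∀ y ∈ Y, ∀ (k : ℕ) (g : Fin s ↪ Fin k), eF (ρ.toEmbedding.trans g) y = eF g y := by
  intro ρ hρ y hy k g
  let K : Subgroup (Equiv.Perm (Fin s)) :=
    { carrier := {ρ | ∀ (k : ℕ) (g : Fin s ↪ Fin k), eF (ρ.toEmbedding.trans g) y = eF g y}
      one_mem' := fun k g => by congr 1
      mul_mem' := fun {a b} ha hb k g => by
        rw [show (a * b).toEmbedding.trans g = b.toEmbedding.trans (a.toEmbedding.trans g) from rfl, hb, ha]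
      inv_mem' := fun {a} ha k g => by
        rw [← ha k ((a⁻¹).toEmbedding.trans g)]
        congr 2
        ext i
        simp }
  exact (Subgroup.zpowers_le.2 (show r ∈ K from fun k g => eF_sym r y (hr y hy) g)) hρ k g

theorem eF_mem_genSet {Y : Set (Cfsg.SU s F q)} {k : ℕ} (g : Fin s ↪ Fin k) {y : Cfsg.SU s F q} (hy : y ∈ Y) :
    eF g y ∈ Subgroup.closure (genSet Y k) :=
  Subgroup.subset_closure (Or.inr ⟨g, y, hy, rfl⟩)

theorem perm_mem_genSet (Y : Set (Cfsg.SU s F q)) {k : ℕ} (x : alternatingGroup (Fin k)) :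
    permSU F q k x ∈ Subgroup.closure (genSet Y k) :=
  Subgroup.subset_closure (Or.inl ⟨x, rfl⟩)

variable [Fintype F] (hF : Fintype.card F = q ^ 2)

include hF in
theorem gen_all {Y : Set (Cfsg.SU s F q)} (h3 : Subgroup.closure (genSet Y 3) = ⊤) (k : ℕ) (hk : 3 ≤ k) :
    Subgroup.closure (genSet Y k) = ⊤ := by
  induction k, hk using Nat.le_induction with
  | base => exact h3
  | succ k hk ih =>
    obtain ⟨y, hy⟩ := exists_alt_move (show 3 ≤ k + 1 by omega) 0 1
    refine gen_succ hF hk (t := permSU F q (k + 1) y) (by rw [act_perm_std, hy]) _ ?_ (perm_mem_genSet Y y)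
    rw [MonoidHom.range_eq_map, ← ih, MonoidHom.map_closure, Subgroup.closure_le]
    rintro _ ⟨_, ⟨x, rfl⟩ | ⟨g, z, hz, rfl⟩, rfl⟩
    · rw [emb_eq_eF, eF_perm]; exact perm_mem_genSet Y _
    · rw [emb_eq_eF, eF_trans]; exact eF_mem_genSet _ hz

omit [Fintype F] in
theorem act_smul (g : Cfsg.SU n F q) (c : F) (v : Fin n → F) : act g (c • v) = c • act g v :=
  Matrix.mulVec_smul _ _ _

include hF in
theorem hermStd_two (u v : Fin 2 → F) :
    hermStd 2 hF u v = v 0 * powHom hF (u 0) + v 1 * powHom hF (u 1) := by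
  rw [hermStd_apply, powHom_apply, powHom_apply]
  simp [Cfsg.hermForm, Fin.sum_univ_two]

include hF in
theorem hermStd_three (u v : Fin 3 → F) : hermStd 3 hF u v =
    v 0 * powHom hF (u 0) + v 1 * powHom hF (u 1) + v 2 * powHom hF (u 2) := by
  rw [hermStd_apply, powHom_apply, powHom_apply, powHom_apply]
  simp [Cfsg.hermForm, Fin.sum_univ_three]

include hF in
/-- moving a vector of nonzero norm to the first axis -/
theorem exists_to_axis {u : Fin 2 → F} {ν : F} (hν : ν * powHom hF ν = hermStd 2 hF u u) (hν0 : ν ≠ 0) :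
    ∃ A : Cfsg.SU 2 F q, act A u = ν • std 0 := by
  have h0 : powHom hF ν ≠ 0 := fun e => hν0 ((map_eq_zero _).1 e)
  obtain ⟨A, hA⟩ := exists_act_eq hF (n := 2) (k := 1) (by omega) ![ν⁻¹ • u] ![std 0]
    (fun i j => by
      fin_cases i; fin_cases j
      simp only [Fin.zero_eta, Matrix.cons_val_zero, if_true]
      rw [smul_left, smul_right, ← hν, map_inv₀]
      field_simp)
    (fun i j => by fin_cases i; fin_cases j; simp [std_orth])
  refine ⟨A, ?_⟩
  have := hA 0
  simp only [Matrix.cons_val_zero] at this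
  rw [← this, act_smul, smul_inv_smul₀ hν0]

include hF in
/-- scaling an isotropic vector inside a block of degree two -/
theorem exists_scale {a b c : F} (ha : a ≠ 0) (hab : a * powHom hF a + b * powHom hF b = 0)
    (hc : powHom hF c = c) (hc0 : c ≠ 0) : ∃ A : Cfsg.SU 2 F q, act A ![a, b] = ![c * a, c * b] := by
  have hσ := (powHom_isInvol hF)
  have hb : b ≠ 0 := fun e => by
    rw [e, zero_mul, add_zero] at hab
    exact (mul_ne_zero ha fun e' => ha ((map_eq_zero _).1 e')) hab
  obtain ⟨k, hk⟩ : ∃ k, k = b / a := ⟨_, rfl⟩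
  have hk0 : k ≠ 0 := hk ▸ div_ne_zero hb ha
  have hsa : powHom hF a ≠ 0 := fun e => ha ((map_eq_zero _).1 e)
  have hkk : k * powHom hF k = -1 := by
    rw [hk, map_div₀]
    field_simp
    linear_combination hab
  obtain ⟨t, ht⟩ := hσ.exists_trace_eq (μ := (c * c - 1) / c) (by rw [map_div₀, map_sub, map_mul, map_one, hc])
  obtain ⟨β, hβ⟩ : ∃ β, β = t / k := ⟨_, rfl⟩
  obtain ⟨α, hα⟩ : ∃ α, α = c - t := ⟨_, rfl⟩
  have hbk : β * k = t := by rw [hβ, div_mul_cancel₀ _ hk0]
  have hba : b = k * a := by rw [hk, div_mul_cancel₀ _ ha]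
  have hsbk : powHom hF β * powHom hF k = powHom hF t := by rw [← map_mul, hbk]
  have hnorm : α * powHom hF α + β * powHom hF β = 1 := by
    have e1 : t + powHom hF t = (c * c - 1) / c := ht
    have e2 : c * (t + powHom hF t) = c * c - 1 := by rw [e1, mul_div_cancel₀ _ hc0]
    have e3 : t * powHom hF t = -(β * powHom hF β) := by
      rw [← hbk, map_mul]; linear_combination (β * powHom hF β) * hkk
    rw [hα, map_sub, hc]
    linear_combination -e2 + e3
  have hsb : powHom hF β = -(k * powHom hF t) := by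
    linear_combination (-k) * hsbk + powHom hF β * hkk
  refine ⟨⟨⟨!![α, β; -powHom hF β, powHom hF α], by
    rw [Matrix.det_fin_two_of]; linear_combination hnorm⟩, fun u v => ?_⟩, ?_⟩
  · show Cfsg.hermForm 2 F q (Matrix.mulVec !![α, β; -powHom hF β, powHom hF α] u)
      (Matrix.mulVec !![α, β; -powHom hF β, powHom hF α] v) = _
    simp only [Cfsg.hermForm, Fin.sum_univ_two, ← powHom_apply hF]
    simp [Matrix.mulVec, dotProduct, hσ.invol, -powHom_apply]
    linear_combination (u 0 * powHom hF (v 0) + u 1 * powHom hF (v 1)) * hnorm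
  · funext i
    show Matrix.mulVec !![α, β; -powHom hF β, powHom hF α] ![a, b] i = _
    fin_cases i <;> simp [Matrix.mulVec, dotProduct, hba, -powHom_apply]
    · linear_combination a * hbk + a * hα
    · rw [hsb, hα, map_sub, hc]; ring

include hF in
theorem gen_three (hq : 3 ≤ q) : Subgroup.closure (genSet (Set.univ : Set (Cfsg.SU 2 F q)) 3) = ⊤ := by
  classical
  obtain ⟨H, hH⟩ : ∃ H, H = Subgroup.closure (genSet (Set.univ : Set (Cfsg.SU 2 F q)) 3) := ⟨_, rfl⟩
  rw [← hH, eq_top_iff]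
  have hE : ∀ (g : Fin 2 ↪ Fin 3) A, eF g A ∈ H := fun g A => hH ▸ eF_mem_genSet g (Set.mem_univ A)
  let g01 : Fin 2 ↪ Fin 3 := ⟨![0, 1], by decide⟩
  let g02 : Fin 2 ↪ Fin 3 := ⟨![0, 2], by decide⟩
  let g12 : Fin 2 ↪ Fin 3 := ⟨![1, 2], by decide⟩
  -- the orbit of the first vector
  let R : (Fin 3 → F) → Prop := fun v => ∃ h ∈ H, act h v = std 0
  have hR : ∀ h ∈ H, ∀ v, R (act h v) → R v := fun h hh v ⟨h', hh', e⟩ =>
    ⟨h' * h, mul_mem hh' hh, by rw [act_mul]; exact e⟩
  have unit : ∀ (h : Cfsg.SU 3 F q) v, hermStd 3 hF v v = 1 → hermStd 3 hF (act h v) (act h v) = 1 :=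
    fun h v hv => by rw [act_form, hv]
  have c2 : ∀ v, hermStd 3 hF v v = 1 → v 2 = 0 → R v := by
    intro v hv hv2
    obtain ⟨A, hA⟩ := exists_to_axis hF (u := v ∘ g01) (ν := 1) (by
      rw [hermStd_three, hv2] at hv
      rw [hermStd_two, map_one]
      simpa [g01] using hv.symm) one_ne_zero
    refine ⟨_, hE g01 A, funext fun i => ?_⟩
    fin_cases i
    · show act (eF g01 A) v (g01 0) = _
      rw [eF_apply, hA]; simp [std]
    · show act (eF g01 A) v (g01 1) = _
      rw [eF_apply, hA]; simp [std, g01]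
    · rw [eF_outside g01 A v (by decide)]
      simp [std, hv2]
  have c1 : ∀ v, hermStd 3 hF v v = 1 → v 1 = 0 → R v := by
    intro v hv hv1
    obtain ⟨A, hA⟩ := exists_to_axis hF (u := v ∘ g02) (ν := 1) (by
      rw [hermStd_three, hv1] at hv
      rw [hermStd_two, map_one]
      simpa [g02] using hv.symm) one_ne_zero
    refine ⟨_, hE g02 A, funext fun i => ?_⟩
    fin_cases i
    · show act (eF g02 A) v (g02 0) = _
      rw [eF_apply, hA]; simp [std]
    · rw [eF_outside g02 A v (by decide)]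
      simp [std, hv1]
    · show act (eF g02 A) v (g02 1) = _
      rw [eF_apply, hA]; simp [std, g02]
  have c0 : ∀ v, hermStd 3 hF v v = 1 → v 0 = 0 → R v := by
    intro v hv hv0
    obtain ⟨A, hA⟩ := exists_to_axis hF (u := v ∘ g12) (ν := 1) (by
      rw [hermStd_three, hv0] at hv
      rw [hermStd_two, map_one]
      simpa [g12] using hv.symm) one_ne_zero
    refine hR _ (hE g12 A) v (c2 _ (unit _ _ hv) ?_)
    show act (eF g12 A) v (g12 1) = 0
    rw [eF_apply, hA]; simp [std]
  -- any pair of nonzero norm gives a zero coordinate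
  have red : ∀ (g : Fin 2 ↪ Fin 3) v, hermStd 3 hF v v = 1 → hermStd 2 hF (v ∘ g) (v ∘ g) ≠ 0 → R v := by
    intro g v hv hN
    obtain ⟨ν, hν⟩ := (powHom_isInvol hF).exists_norm_eq (μ := hermStd 2 hF (v ∘ g) (v ∘ g))
      ((hermStd_isHerm hF).self_fixed _)
    obtain ⟨A, hA⟩ := exists_to_axis hF hν (fun e => hN (by rw [← hν, e, zero_mul]))
    have hz : act (eF g A) v (g 1) = 0 := by rw [eF_apply, hA]; simp [std]
    refine hR _ (hE g A) v ?_
    rcases (show ∀ i : Fin 3, i = 0 ∨ i = 1 ∨ i = 2 by decide) (g 1) with e | e | e <;> rw [e] at hz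
    exacts [c0 _ (unit _ _ hv) hz, c1 _ (unit _ _ hv) hz, c2 _ (unit _ _ hv) hz]
  have all : ∀ v, hermStd 3 hF v v = 1 → R v := by
    intro v hv
    by_cases h01 : hermStd 2 hF (v ∘ g01) (v ∘ g01) = 0
    swap; · exact red _ v hv h01
    by_cases h02 : hermStd 2 hF (v ∘ g02) (v ∘ g02) = 0
    swap; · exact red _ v hv h02
    by_cases h12 : hermStd 2 hF (v ∘ g12) (v ∘ g12) = 0
    swap; · exact red _ v hv h12
    by_cases h0 : v 0 = 0
    · exact c0 v hv h0
    rw [hermStd_two] at h01 h02 h12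
    simp [g01, g02, g12, -powHom_apply] at h01 h02 h12
    rw [hermStd_three] at hv
    have h2 : (2 : F) = 0 := by linear_combination h01 + h02 + h12 - 2 * hv
    obtain ⟨c, hc⟩ : ∃ c : fixedSub (powHom hF), c ∉ ({0, 1} : Set (fixedSub (powHom hF))) := by
      by_contra hc
      push Not at hc
      have h := Nat.card_mono (Set.toFinite _) (show (Set.univ : Set (fixedSub (powHom hF))) ⊆ {0, 1} from fun x _ => hc x)
      rw [Nat.card_coe_set_eq, Nat.card_coe_set_eq, Set.ncard_univ, card_fixed_powHom hF] at h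
      have := (Set.ncard_insert_le (0 : fixedSub (powHom hF)) {1}).trans (by rw [Set.ncard_singleton])
      omega
    simp only [Set.mem_insert_iff, Set.mem_singleton_iff, not_or] at hc
    obtain ⟨hcz, hc1⟩ := hc
    have hcc : powHom hF (c : F) = c := c.2
    have hc0 : (c : F) ≠ 0 := fun e => hcz (Subtype.ext e)
    obtain ⟨A, hA⟩ := exists_scale hF h0 h01 hcc hc0
    have hvg : v ∘ g01 = ![v 0, v 1] := by funext i; fin_cases i <;> rfl
    refine hR _ (hE g01 A) v (red g02 _ (by rw [act_form, hermStd_three]; exact hv) ?_)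
    have e0 : act (eF g01 A) v 0 = c * v 0 := by
      show act (eF g01 A) v (g01 0) = _
      rw [eF_apply, hvg, hA]; rfl
    have e2 : act (eF g01 A) v 2 = v 2 := eF_outside g01 A v (by decide)
    rw [hermStd_two]
    show act (eF g01 A) v 0 * powHom hF (act (eF g01 A) v 0) +
      act (eF g01 A) v 2 * powHom hF (act (eF g01 A) v 2) ≠ 0
    rw [e0, e2, map_mul, hcc]
    intro e
    have n0 : v 0 * powHom hF (v 0) = 1 := by linear_combination hv - h12
    have e' : ((c : F) - 1) * ((c : F) - 1) = 0 := by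
      linear_combination e - (c * c - 1) * n0 - h02 - ((c : F) - 1) * h2
    exact hc1 (Subtype.ext (sub_eq_zero.1 (mul_self_eq_zero.1 e')))
  intro g _
  obtain ⟨h, hh, he⟩ := all (act g (std 0)) (by rw [act_form, std_orth, if_pos rfl])
  obtain ⟨A, hA⟩ := exists_emb hF (g := h * g) (by rw [act_mul]; exact he)
  rw [show g = h⁻¹ * emb 2 A by rw [hA, inv_mul_cancel_left]]
  exact mul_mem (inv_mem hh) (by rw [emb_eq_eF]; exact hE _ A)

/-! ### The field of four elements -/

open CfsgLib.Classical.Herm.ThreeTwo (Omega mem_SU)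

/-- the Fourier matrix, symmetric in the first two coordinates -/
def matW (w : F) : Matrix (Fin 3) (Fin 3) F := !![w, w ^ 2, 1; w ^ 2, w, 1; 1, 1, 1]

/-- its twist -/
def matW' (w : F) : Matrix (Fin 3) (Fin 3) F := !![w, w ^ 2, w; w ^ 2, w, w; w ^ 2, w ^ 2, 1]

/-- the transposition of the first two coordinates -/
def matS (F : Type*) [Field F] : Matrix (Fin 3) (Fin 3) F := !![0, 1, 0; 1, 0, 0; 0, 0, 1]

variable {w : F} (hw : Omega w)

/-- the Fourier element -/
def elW : Cfsg.SU 3 F 2 := ⟨⟨matW w, by obtain ⟨h2, h⟩ := hw; simp [matW, Matrix.det_fin_three]; grind⟩,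
  mem_SU hw.two fun j k => by
    obtain ⟨h2, h⟩ := hw
    fin_cases j <;> fin_cases k <;> simp [matW, Fin.sum_univ_three] <;> grind⟩

/-- its twist -/
def elW' : Cfsg.SU 3 F 2 := ⟨⟨matW' w, by obtain ⟨h2, h⟩ := hw; simp [matW', Matrix.det_fin_three]; grind⟩,
  mem_SU hw.two fun j k => by
    obtain ⟨h2, h⟩ := hw
    fin_cases j <;> fin_cases k <;> simp [matW', Fin.sum_univ_three] <;> grind⟩

/-- the transposition -/
def elS : Cfsg.SU 3 F 2 := ⟨⟨matS F, by obtain ⟨h2, h⟩ := hw; simp [matS, Matrix.det_fin_three]; grind⟩,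
  mem_SU hw.two fun j k => by
    fin_cases j <;> fin_cases k <;> simp [matS, Fin.sum_univ_three]⟩

/-- the three blocks -/
def blocksTwo : Set (Cfsg.SU 3 F 2) := {elS hw, elW hw, elW' hw}

theorem blocksTwo_sym : ∀ y ∈ blocksTwo hw, ∀ v : Fin 3 → F,
    act y (v ∘ Equiv.swap (0 : Fin 3) 1) = act y v ∘ Equiv.swap (0 : Fin 3) 1 := by
  rintro y (rfl | rfl | rfl) v <;>
  · funext i
    fin_cases i <;>
      simp [act, elS, elW, elW', matS, matW, matW', Matrix.mulVec, dotProduct, Fin.sum_univ_three,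
        Equiv.swap_apply_def] <;> ring

theorem gen_three_two (hF : Fintype.card F = 2 ^ 2) : Subgroup.closure (genSet (blocksTwo hw) 3) = ⊤ := by
  classical
  obtain ⟨H, hH⟩ : ∃ H, H = Subgroup.closure (genSet (blocksTwo hw) 3) := ⟨_, rfl⟩
  rw [← hH, eq_top_iff]
  have h2 := hw.two
  have hroot := hw.root
  have hcube : ∀ {x : F}, x ≠ 0 → x ^ 3 = 1 := fun hx => by
    have := FiniteField.pow_card_sub_one_eq_one _ hx
    rwa [hF, show 2 ^ 2 - 1 = 3 from rfl] at this
  have hE : ∀ y ∈ blocksTwo hw, y ∈ H := fun y hy => by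
    rw [hH, ← eF_refl y]; exact eF_mem_genSet _ hy
  have hS := hE _ (Or.inl rfl)
  have hW := hE _ (Or.inr (Or.inl rfl))
  have hW' := hE _ (Or.inr (Or.inr rfl))
  have hP : ∀ x, permSU F 2 3 x ∈ H := fun x => hH ▸ perm_mem_genSet _ x
  obtain ⟨P, hPdef⟩ : ∃ P, P = permSU F 2 3 rot3 := ⟨_, rfl⟩
  have hPm : P ∈ H := hPdef ▸ hP _
  have actP : ∀ v : Fin 3 → F, act P v = ![v 2, v 0, v 1] := fun v => by
    rw [hPdef, act_perm]
    funext i
    fin_cases i <;> rfl
  -- the diagonal elements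
  let Dg : F → F → Prop := fun a b => ∃ h ∈ H, ∀ v : Fin 3 → F, act h v = ![a * v 0, b * v 1, a ^ 2 * b ^ 2 * v 2]
  have Dmul : ∀ {a b a' b'}, Dg a b → Dg a' b' → Dg (a * a') (b * b') := by
    rintro a b a' b' ⟨h, hh, e⟩ ⟨h', hh', e'⟩
    refine ⟨h * h', mul_mem hh hh', fun v => ?_⟩
    rw [act_mul, e, e']
    funext i; fin_cases i <;> simp <;> ring
  have Dconj : ∀ {a b}, Dg a b → Dg (a ^ 2 * b ^ 2) a := by
    rintro a b ⟨h, hh, e⟩
    by_cases hab : a = 0 ∨ b = 0
    · exfalso
      rcases hab with rfl | rfl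
      · have := act_inv_eq (e (std 0))
        rw [show (![0 * (std 0 : Fin 3 → F) 0, b * (std 0 : Fin 3 → F) 1, 0 ^ 2 * b ^ 2 * (std 0 : Fin 3 → F) 2]) = 0 by
          funext i; fin_cases i <;> simp [std], act, Matrix.mulVec_zero] at this
        simpa [std] using congrFun this 0
      · have := act_inv_eq (e (std 1))
        rw [show (![a * (std 1 : Fin 3 → F) 0, 0 * (std 1 : Fin 3 → F) 1, a ^ 2 * 0 ^ 2 * (std 1 : Fin 3 → F) 2]) = 0 by
          funext i; fin_cases i <;> simp [std], act, Matrix.mulVec_zero] at this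
        simpa [std] using congrFun this 1
    rw [not_or] at hab
    refine ⟨P * h * P⁻¹, mul_mem (mul_mem hPm hh) (inv_mem hPm), fun v => ?_⟩
    have hinv : act P⁻¹ v = ![v 1, v 2, v 0] := act_inv_eq (by rw [actP]; funext i; fin_cases i <;> rfl)
    rw [act_mul, act_mul, hinv, e, actP]
    have ha := hcube hab.1
    have hb := hcube hab.2
    funext i
    fin_cases i <;> simp
    left
    linear_combination (-(a ^ 3) * b * b ^ 3) * ha + (-b) * hb * (a ^ 3) + (-b) * ha
  have d0 : Dg w (w ^ 2) := by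
    refine ⟨elW hw * P * (elW hw)⁻¹, mul_mem (mul_mem hW hPm) (inv_mem hW), fun v => ?_⟩
    obtain ⟨u, rfl⟩ : ∃ u, act (elW hw) u = v :=
      ⟨act (elW hw)⁻¹ v, by rw [← act_mul, mul_inv_cancel, act_one]⟩
    rw [act_mul, act_mul, ← act_mul (elW hw)⁻¹, inv_mul_cancel, act_one, actP]
    funext i
    fin_cases i <;> simp [act, elW, matW, Matrix.mulVec, dotProduct, Fin.sum_univ_three] <;> grind
  have d1 : Dg 1 w := by
    have := Dconj d0
    rwa [show w ^ 2 * (w ^ 2) ^ 2 = 1 by linear_combination (w ^ 3 + 1) * (w - 1) * hroot] at this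
  have d2 : Dg (w ^ 2) 1 := by
    have := Dconj d1
    rwa [one_pow, one_mul] at this
  have d3 : Dg 1 1 := ⟨1, one_mem _, fun v => by rw [act_one]; funext i; fin_cases i <;> simp⟩
  have elts : ∀ {a : F}, a ≠ 0 → a = 1 ∨ a = w ∨ a = w ^ 2 := by
    intro a ha
    have : (a - 1) * ((a - w) * (a - w ^ 2)) = 0 := by
      linear_combination hcube ha + (-(a ^ 2) + a * w - (w - 1)) * hroot
    rcases mul_eq_zero.1 this with h | h
    · exact Or.inl (sub_eq_zero.1 h)
    · exact Or.inr ((mul_eq_zero.1 h).imp sub_eq_zero.1 sub_eq_zero.1)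
  have hw3 : w ^ 3 = 1 := by linear_combination (w - 1) * hroot
  have hD : ∀ {a b : F}, a ≠ 0 → b ≠ 0 → Dg a b := by
    intro a b ha hb
    rw [← mul_one a, ← one_mul b]
    refine Dmul ?_ ?_
    · rcases elts ha with e | e | e <;> rw [e]
      · exact d3
      · have := Dmul d2 d2
        rwa [show w ^ 2 * w ^ 2 = w by linear_combination w * hw3, mul_one] at this
      · exact d2
    · rcases elts hb with e | e | e <;> rw [e]
      · exact d3
      · exact d1
      · have := Dmul d1 d1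
        rwa [one_mul, ← sq] at this
  -- the orbit of the first vector
  let R : (Fin 3 → F) → Prop := fun v => ∃ h ∈ H, act h (std 0) = v
  have hR : ∀ h ∈ H, ∀ v, R v → R (act h v) := fun h hh v ⟨h', hh', e⟩ =>
    ⟨h * h', mul_mem hh hh', by rw [act_mul, e]⟩
  have r0 : R (std 0) := ⟨1, one_mem _, act_one _⟩
  have rc : ∀ {c : F}, c ≠ 0 → R ![c, 0, 0] := fun {c} hc => by
    obtain ⟨h, hh, e⟩ := hD hc one_ne_zero
    refine ⟨h, hh, ?_⟩
    rw [e]; funext i; fin_cases i <;> simp [std]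
  have rP : ∀ {a b c : F}, R ![a, b, c] → R ![c, a, b] := fun {a b c} h => by
    have := hR P hPm _ h
    rwa [actP] at this
  have hsame : ∀ {a b c a' b' c' : F}, a ≠ 0 → b ≠ 0 → c ≠ 0 → a' ≠ 0 → b' ≠ 0 → c' ≠ 0 →
      a * b * c = a' * b' * c' → R ![a', b', c'] → R ![a, b, c] := by
    intro a b c a' b' c' ha hb hc ha' hb' hc' he hr
    obtain ⟨h, hh, e⟩ := hD (div_ne_zero ha ha') (div_ne_zero hb hb')
    have := hR h hh _ hr
    rw [e] at this
    convert this using 1
    have ea := hcube (div_ne_zero ha ha')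
    have eb := hcube (div_ne_zero hb hb')
    funext i
    fin_cases i <;> simp [ha', hb']
    field_simp at ea eb ⊢
    refine mul_left_cancel₀ (mul_ne_zero ha' hb') ?_
    first
      | linear_combination (-(a ^ 2 * b ^ 2)) * he + c * b ^ 3 * ea + c * a' ^ 3 * eb
      | linear_combination (a ^ 2 * b ^ 2) * he - c * b ^ 3 * ea - c * a' ^ 3 * eb
  have r111 : R ![1, 1, 1] := by
    have := hR _ hW _ (rP (rP (rc (one_ne_zero (α := F)))))
    convert this using 1
    funext i
    fin_cases i <;> simp [act, elW, matW, Matrix.mulVec, dotProduct, Fin.sum_univ_three]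
  have rw2 : R ![w, w ^ 2, w ^ 2] := by
    have := hR _ hW' _ r0
    convert this using 1
    funext i
    fin_cases i <;> simp [act, elW', matW', Matrix.mulVec, dotProduct, Fin.sum_univ_three, std]
  have w0 : w ≠ 0 := ThreeTwo.ne_zero hw
  have rw1 : R ![w, 1, 1] := by
    have h1 : R ![1, w, w] := hsame one_ne_zero w0 w0 w0 (pow_ne_zero _ w0) (pow_ne_zero _ w0)
      (by linear_combination (-(w ^ 2)) * hw3) rw2
    have := hR _ (inv_mem hW) _ h1
    rwa [act_inv_eq (v := ![w, 1, 1]) (by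
      funext i
      fin_cases i <;> simp [act, elW, matW, Matrix.mulVec, dotProduct, Fin.sum_univ_three] <;> grind)] at this
  have all : ∀ v, hermStd 3 hF v v = 1 → R v := by
    intro v hv
    rw [hermStd_three, powHom_apply, powHom_apply, powHom_apply] at hv
    obtain ⟨a, b, c, rfl⟩ : ∃ a b c, v = ![a, b, c] :=
      ⟨v 0, v 1, v 2, by funext i; fin_cases i <;> rfl⟩
    simp at hv
    by_cases ha : a = 0 <;> by_cases hb : b = 0 <;> by_cases hc : c = 0
    · subst ha hb hc; simp at hv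
    · subst ha hb; exact rP (rP (rc hc))
    · subst ha hc; exact rP (rc hb)
    · exfalso
      subst ha
      exact one_ne_zero (α := F) (by linear_combination hcube hb + hcube hc + h2 - hv)
    · subst hb hc; exact rc ha
    · exfalso
      subst hb
      exact one_ne_zero (α := F) (by linear_combination hcube ha + hcube hc + h2 - hv)
    · exfalso
      subst hc
      exact one_ne_zero (α := F) (by linear_combination hcube ha + hcube hb + h2 - hv)
    · rcases elts (mul_ne_zero (mul_ne_zero ha hb) hc) with e | e | e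
      · exact hsame ha hb hc one_ne_zero one_ne_zero one_ne_zero (by rw [e]; ring) r111
      · exact hsame ha hb hc w0 one_ne_zero one_ne_zero (by rw [e]; ring) rw1
      · exact hsame ha hb hc w0 (pow_ne_zero _ w0) (pow_ne_zero _ w0)
          (by rw [e]; linear_combination (-(w ^ 2)) * hw3) rw2
  intro g _
  obtain ⟨h, hh, he⟩ := all (act g (std 0)) (by rw [act_form, std_orth, if_pos rfl])
  obtain ⟨k, hk⟩ : ∃ k, k = h⁻¹ * g := ⟨_, rfl⟩
  have hk0 : act k (std 0) = std 0 := by rw [hk, act_mul]; exact act_inv_eq he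
  -- the stabiliser
  obtain ⟨h', hh', e0, e1⟩ : ∃ h' ∈ H, act h' (std 0) = std 0 ∧ act h' (std 1) = act k (std 1) := by
    obtain ⟨u, hu⟩ : ∃ u, u = act k (std 1) := ⟨_, rfl⟩
    have hu0 : u 0 = 0 := by
      rw [← std_left (hF := hF) 0 u, ← hk0, hu, act_form, std_orth, if_neg (by decide)]
    have hun : hermStd 3 hF u u = 1 := by rw [hu, act_form, std_orth, if_pos rfl]
    rw [hermStd_three, powHom_apply, powHom_apply, powHom_apply, hu0] at hun
    rw [← hu]
    by_cases hc : u 2 = 0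
    · have hb : u 1 ≠ 0 := fun e => by simp [e, hc] at hun
      obtain ⟨d, hd, e⟩ := hD (one_ne_zero (α := F)) hb
      exact ⟨d, hd, by rw [e]; funext i; fin_cases i <;> simp [std],
        by rw [e]; funext i; fin_cases i <;> simp [std, hu0, hc]⟩
    · have hb : u 1 = 0 := by
        by_contra hb
        simp at hun
        exact one_ne_zero (α := F) (by linear_combination hcube hb + hcube hc + h2 - hun)
      obtain ⟨d, hd, e⟩ := hD (one_ne_zero (α := F)) (pow_ne_zero 2 hc)
      have hinv : ∀ v : Fin 3 → F, act P⁻¹ v = ![v 1, v 2, v 0] := fun v =>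
        act_inv_eq (by rw [actP]; funext i; fin_cases i <;> rfl)
      have hs : ∀ v : Fin 3 → F, act (elS hw) v = ![v 1, v 0, v 2] := fun v => by
        funext i
        fin_cases i <;> simp [act, elS, matS, Matrix.mulVec, dotProduct, Fin.sum_univ_three]
      refine ⟨d * (P * elS hw * P⁻¹), mul_mem hd (mul_mem (mul_mem hPm hS) (inv_mem hPm)), ?_, ?_⟩ <;>
        rw [act_mul, act_mul, act_mul, hinv, hs, actP, e] <;> funext i <;> fin_cases i <;> simp [std, hu0, hb]
      linear_combination u 2 * hcube hc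
  obtain ⟨A, hA⟩ := exists_emb hF (g := h'⁻¹ * k) (by rw [act_mul, hk0]; exact act_inv_eq e0)
  have hA1 : act A (std 0) = std 0 := by
    have h1 : act (emb 2 A) (std 1) = std 1 := by rw [hA, act_mul]; exact act_inv_eq e1
    rw [show (std 1 : Fin 3 → F) = Fin.cons 0 (std 0) from std_succ 0, act_emb_succ] at h1
    exact Fin.cons_right_injective (α := fun _ => F) (0 : F) h1
  obtain ⟨B, hB⟩ := exists_emb hF hA1
  have hB1 : B = 1 := Subtype.ext (Subtype.ext (by
    have hd := B.1.2
    rw [Matrix.det_fin_one] at hd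
    ext i j
    fin_cases i; fin_cases j
    exact hd))
  rw [← hB, hB1, map_one, map_one, eq_comm, inv_mul_eq_one] at hA
  rw [show g = h * k by rw [hk, mul_inv_cancel_left], ← hA]
  exact mul_mem hh hh'

end CfsgLib.Known.SUBounded
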