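import Cfsg.Agent.Lib.Known.SUBounded.Lift

/-!
# Degree six over the field of four elements

Here the orthogonality graph is not made of triangles alone: three further closing relations are needed.
-/

set_option autoImplicit false

namespace CfsgLib.Known.SUBounded

open CfsgLib.Classical CfsgLib.Classical.Herm

namespace Cover

variable {G X : Type*} [Group G] [MulAction G X] {A : X → X → Prop} {e e₁ : X} {E : Subgroup G} {t : G}
  (C : Cover G X A e e₁ E t)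

/-- the walks `u a v` and `u b v` lift alike -/
def CloseAt (u v a b : X) : Prop :=
  ∀ x xa ya xb yb : G ⧸ E, Adj E t x xa → Adj E t xa ya → Adj E t x xb → Adj E t xb yb →
    C.vert x = u → C.vert xa = a → C.vert ya = v → C.vert xb = b → C.vert yb = v → ya = yb

include C in
theorem closeAt_conn {u v a b : X} (hc : Conn A u v a b) : C.CloseAt u v a b := by
  intro x xa ya xb yb h1 h2 h3 h4 hx hxa hya hxb hyb
  subst hx hxa
  have a1 := C.adj_edge h1
  have a2 := C.adj_edge h2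
  rw [hya] at a2
  exact C.conn_eq hc a1 a2 h1 rfl h2 hya h3 hxb h4 hyb

include C in
theorem closeAt_trans {u v a b c : X} (huc : A u c) (hcv : A c v) (h : C.CloseAt u v a c) (h' : C.CloseAt u v c b) :
    C.CloseAt u v a b := by
  intro x xa ya xb yb h1 h2 h3 h4 hx hxa hya hxb hyb
  obtain ⟨xc, c1, c2⟩ := C.lift_exists x (hx ▸ huc)
  obtain ⟨yc, c3, c4⟩ := C.lift_exists xc (c2 ▸ hcv)
  rw [h x xa ya xc yc h1 h2 c1 c3 hx hxa hya c2 c4, h' x xc yc xb yb c1 c3 h3 h4 hx c2 c4 hxb hyb]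

include C in
theorem closeAt_mid {u v a b w : X} (haw : A a w) (hbw : A b w) (h : C.CloseAt u w a b) (h' : C.CloseAt w v a b) :
    C.CloseAt u v a b := by
  intro x xa ya xb yb h1 h2 h3 h4 hx hxa hya hxb hyb
  obtain ⟨z, z1, z2⟩ := C.lift_exists xa (hxa ▸ haw)
  obtain ⟨z', z3, z4⟩ := C.lift_exists xb (hxb ▸ hbw)
  obtain rfl := h x xa z xb z' h1 z1 h3 z3 hx hxa z2 hxb z4
  exact h' z xa ya xb yb (C.adj_symm z1) h2 (C.adj_symm z3) h4 z2 hxa hya hxb hyb

include C in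
theorem vert_smul (g : G) (x : G ⧸ E) : C.vert (g • x) = g • C.vert x := by
  obtain ⟨h, rfl⟩ := QuotientGroup.mk_surjective x
  rw [MulAction.Quotient.smul_coe, C.vert_mk, C.vert_mk, smul_eq_mul, mul_smul]

include C in
theorem closeAt_smul (g : G) {u v a b : X} (h : C.CloseAt u v a b) :
    C.CloseAt (g • u) (g • v) (g • a) (g • b) := by
  intro x xa ya xb yb h1 h2 h3 h4 hx hxa hya hxb hyb
  refine smul_left_cancel g⁻¹ (h _ _ _ _ _ (adj_left h1) (adj_left h2) (adj_left h3) (adj_left h4)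
    ?_ ?_ ?_ ?_ ?_) <;> rw [C.vert_smul]
  exacts [by rw [hx, inv_smul_smul], by rw [hxa, inv_smul_smul], by rw [hya, inv_smul_smul],
    by rw [hxb, inv_smul_smul], by rw [hyb, inv_smul_smul]]

include C in
theorem closeAt_self {u a b : X} : C.CloseAt u u a b := by
  intro x xa ya xb yb h1 h2 h3 h4 hx _ hya _ hyb
  rw [← C.lift_unique (C.adj_symm h1) h2 (hx.trans hya.symm),
    ← C.lift_unique (C.adj_symm h3) h4 (hx.trans hyb.symm)]

include C in
theorem closeAt_adj {u v a b : X} (huv : A u v) : C.CloseAt u v a b := by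
  intro x xa ya xb yb h1 h2 h3 h4 hx _ hya _ hyb
  subst hx
  exact C.lift_unique (C.triangle h1 h2 (hya.symm ▸ huv)) (C.triangle h3 h4 (hyb.symm ▸ huv)) (hya.trans hyb.symm)

include C in
theorem closes_of_closeAt (h : ∀ u v a b, A u a → A a v → A u b → A b v → C.CloseAt u v a b) : C.Closes := by
  intro x xa ya xb yb h1 h2 h3 h4 he
  exact h _ _ _ _ (C.adj_edge h1) (C.adj_edge h2) (C.adj_edge h3) (he ▸ C.adj_edge h4)
    x xa ya xb yb h1 h2 h3 h4 rfl rfl rfl rfl he.symm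

end Cover

variable {F : Type*} [Field F] [Fintype F] {q : ℕ}

/-- the far corner of the special closed walks -/
def vQuad (F : Type*) [Field F] : Fin 6 → F := ![1, 0, 1, 1, 0, 0]

/-- the middle of the special closed walks -/
def rQuad {F : Type*} [Field F] (p : F) : Fin 6 → F := ![0, p, 0, 0, 1, 1]

/-- a special closed walk, with the elements realising it -/
def IsQuad (T : Cfsg.SU 6 F q) (p : F) (A' B₀ A'' C₀ : Cfsg.SU 5 F q) : Prop :=
  act T (act (emb 5 A') (std 1)) = vQuad F ∧ act (emb 5 B₀) (std 1) = rQuad p ∧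
    T * emb 5 A' * T = emb 5 B₀ * T * emb 5 A'' * T * emb 5 C₀

theorem two_eq_zero (hF : Fintype.card F = 2 ^ 2) : (2 : F) = 0 := by
  have h : ((4 : ℕ) : F) = 0 := by rw [show (4 : ℕ) = Fintype.card F by rw [hF]; norm_num, Nat.cast_card_eq_zero]
  have h2 : (2 : F) * 2 = 0 := by rw [← h]; norm_num
  exact mul_self_eq_zero.1 h2

theorem cube_eq_one (hF : Fintype.card F = 2 ^ 2) {x : F} (hx : x ≠ 0) : x ^ 3 = 1 := by
  have := FiniteField.pow_card_sub_one_eq_one x hx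
  rwa [hF, show 2 ^ 2 - 1 = 3 from rfl] at this

theorem hermStd_six (hF : Fintype.card F = q ^ 2) (u v : Fin 6 → F) : hermStd 6 hF u v =
    v 0 * u 0 ^ q + v 1 * u 1 ^ q + v 2 * u 2 ^ q + v 3 * u 3 ^ q + v 4 * u 4 ^ q + v 5 * u 5 ^ q := by
  rw [hermStd_apply]
  simp [Cfsg.hermForm, Fin.sum_univ_six]

theorem exists_quad (hF : Fintype.card F = 2 ^ 2) {T : Cfsg.SU 6 F 2} (hT0 : act T (std 0) = std 1)
    (hT1 : act T (std 1) = std 0) (hTT : T * T = 1) {p : F} (hp : p ≠ 0) :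
    ∃ A' B₀ A'' C₀, IsQuad T p A' B₀ A'' C₀ := by
  have h2 := two_eq_zero hF
  have hB := hermStd_isHerm (n := 6) hF
  have h01 : (0 : Fin 6) ≠ 1 := by decide
  have inv : ∀ w, act T (act T w) = w := fun w => by rw [← act_mul, hTT, act_one]
  have move : ∀ w : Fin 6 → F, hermStd 6 hF w w = 1 → hermStd 6 hF (std 0) w = 0 →
      ∃ A : Cfsg.SU 5 F 2, act (emb 5 A) (std 1) = w := by
    intro w hw hw0
    obtain ⟨g, hg⟩ := exists_act_eq hF (n := 6) (k := 2) (by omega) ![std 0, std 1] ![std 0, w]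
      (fun i j => by fin_cases i <;> fin_cases j <;> simp [std_orth, h01, Ne.symm h01])
      (fun i j => by fin_cases i <;> fin_cases j <;> simp [std_orth, hw, hw0, hB.eq_zero_symm hw0])
    obtain ⟨A, rfl⟩ := exists_emb hF (hg 0)
    exact ⟨A, hg 1⟩
  have hv : hermStd 6 hF (vQuad F) (vQuad F) = 1 := by
    rw [hermStd_six]; simp [vQuad]; linear_combination h2
  have hv1 : hermStd 6 hF (std 1) (vQuad F) = 0 := by
    rw [std_left]; simp [vQuad]
  have hr : hermStd 6 hF (rQuad p) (rQuad p) = 1 := by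
    rw [hermStd_six]; simp [rQuad]; linear_combination cube_eq_one hF hp + h2
  have hr0 : hermStd 6 hF (std 0) (rQuad p) = 0 := by
    rw [std_left]; simp [rQuad]
  have hrv : hermStd 6 hF (rQuad p) (vQuad F) = 0 := by
    rw [hermStd_six]; simp [rQuad, vQuad]
  obtain ⟨A', hA'⟩ := move (act T (vQuad F)) (by rw [act_form, hv]) (by rw [← hT1, act_form]; exact hv1)
  obtain ⟨B₀, hB₀⟩ := move (rQuad p) hr hr0
  obtain ⟨w, hw⟩ : ∃ w, w = act (emb 5 B₀)⁻¹ (vQuad F) := ⟨_, rfl⟩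
  obtain ⟨A'', hA''⟩ := move (act T w) (by rw [act_form, hw, act_form, hv]) (by
    rw [← hT1, act_form, hw, ← act_inv_eq hB₀, act_form]; exact hrv)
  obtain ⟨C₀, hC₀⟩ := exists_emb hF (g := (emb 5 B₀ * T * emb 5 A'' * T)⁻¹ * (T * emb 5 A' * T)) (by
    simp only [act_mul, hT0, hA', inv]
    refine act_inv_eq ?_
    simp only [act_mul, hT0, hA'', inv, hw]
    rw [← act_mul, mul_inv_cancel, act_one])
  exact ⟨A', B₀, A'', C₀, by rw [hA', inv], hB₀, by rw [hC₀, mul_inv_cancel_left]⟩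

namespace Ext

variable {hF : Fintype.card F = 2 ^ 2} {P : Type*} [Group P] (D : Ext hF 4 P)

theorem proj_surjective : Function.Surjective D.proj :=
  MonoidHom.range_eq_top.1 (gen_succ hF (k := 5) (by omega) (t := D.T) D.hT0 _
    (by rintro _ ⟨A, rfl⟩; exact ⟨D.low A, rfl⟩) ⟨D.edgeElt, rfl⟩)

theorem closeAt_special {p : F} {A' B₀ A'' C₀ : Cfsg.SU 5 F 2} (hQ : IsQuad D.T p A' B₀ A'' C₀)
    (hP : D.t * D.ψ A' * D.t = D.ψ B₀ * D.t * D.ψ A'' * D.t * D.ψ C₀) (v' b' : Sphere (hermStd 6 hF))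
    (hv' : v'.1 = vQuad F) (hb' : b'.1 = rQuad p) :
    D.cover.CloseAt (ept hF 0) v' (ept hF 1) b' := by
  obtain ⟨q1, q2, q3⟩ := hQ
  intro x xa ya xb yb h1 h2 h3 h4 hx hxa hya hxb hyb
  obtain ⟨g, rfl⟩ := QuotientGroup.mk_surjective x
  rw [D.cover.vert_mk] at hx
  obtain ⟨A, hA⟩ := exists_emb hF (g := D.proj g) (congrArg Subtype.val hx)
  obtain ⟨k, hk⟩ : ∃ k, k = g * (D.low A)⁻¹ := ⟨_, rfl⟩
  have hk1 : D.proj k = 1 := by rw [hk, map_mul, map_inv, proj_low, hA, mul_inv_cancel]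
  have hgk : (g : D.big ⧸ D.low.range) = (k : D.big ⧸ D.low.range) :=
    (Cover.mk_mul (inv_mem (⟨A, rfl⟩ : D.low A ∈ D.low.range))).symm.trans (by rw [hk])
  rw [hgk] at h1 h3
  have tr : ∀ y : D.big, (k * y) • (ept hF 0 : Sphere (hermStd (4 + 2) hF)) =
      y • (ept hF 0 : Sphere (hermStd (4 + 2) hF)) := fun y => by
    refine Subtype.ext ?_
    rw [big_smul, big_smul, map_mul, hk1, one_mul]
  have v1 : D.cover.vert ((k * D.edgeElt : D.big) : D.big ⧸ D.low.range) = ept hF 1 := by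
    rw [D.cover.vert_mk, tr, D.cover.move]
  have v2 : D.cover.vert ((k * D.edgeElt * D.low A' * D.edgeElt : D.big) : D.big ⧸ D.low.range) = v' := by
    rw [D.cover.vert_mk, mul_assoc k, mul_assoc k, tr, mul_smul, mul_smul, D.cover.move]
    refine Subtype.ext ?_
    rw [hv', big_smul, big_smul, proj_edge, proj_low]
    exact q1
  have v3 : D.cover.vert ((k * D.low B₀ * D.edgeElt : D.big) : D.big ⧸ D.low.range) = b' := by
    rw [D.cover.vert_mk, mul_assoc k, tr, mul_smul, D.cover.move]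
    refine Subtype.ext ?_
    rw [hb', big_smul, proj_low]
    exact q2
  have eqn : D.edgeElt * D.low A' * D.edgeElt =
      D.low B₀ * D.edgeElt * D.low A'' * D.edgeElt * D.low C₀ := Subtype.ext (Prod.ext hP q3)
  have e2 : ((k * D.edgeElt * D.low A' * D.edgeElt : D.big) : D.big ⧸ D.low.range) =
      ((k * D.low B₀ * D.edgeElt * D.low A'' * D.edgeElt : D.big) : D.big ⧸ D.low.range) := by
    rw [show k * D.edgeElt * D.low A' * D.edgeElt = k * (D.edgeElt * D.low A' * D.edgeElt) by group, eqn,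
      ← mul_assoc k, ← mul_assoc k, ← mul_assoc k, ← mul_assoc k, Cover.mk_mul (⟨C₀, rfl⟩ : D.low C₀ ∈ D.low.range)]
  obtain rfl := D.cover.lift_unique h1 ⟨k, 1, one_mem _, rfl, by rw [mul_one]⟩ (hxa.trans v1.symm)
  obtain rfl := D.cover.lift_unique h3 ⟨k, D.low B₀, ⟨B₀, rfl⟩, rfl, rfl⟩ (hxb.trans v3.symm)
  obtain rfl := D.cover.lift_unique h2 ⟨k * D.edgeElt, D.low A', ⟨A', rfl⟩, rfl, rfl⟩ (hya.trans v2.symm)
  refine e2.trans (D.cover.lift_unique ⟨k * D.low B₀ * D.edgeElt, D.low A'', ⟨A'', rfl⟩, rfl, rfl⟩ h4 ?_)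
  rw [← e2, v2, hyb]

theorem closeAt_base (hrel : ∀ p : F, p ≠ 0 → ∃ A' B₀ A'' C₀, IsQuad D.T p A' B₀ A'' C₀ ∧
      D.t * D.ψ A' * D.t = D.ψ B₀ * D.t * D.ψ A'' * D.t * D.ψ C₀)
    (v' b : Sphere (hermStd 6 hF)) (hv' : v'.1 = vQuad F) (h0 : b.1 0 = 0) (h23 : b.1 2 + b.1 3 = 0)
    (h1 : b.1 1 ≠ 0) : D.cover.CloseAt (ept hF 0) v' (ept hF 1) b := by
  have hB := hermStd_isHerm (n := 6) hF
  have h2 := two_eq_zero hF
  have hn := b.2
  rw [hermStd_six] at hn
  have c1 := cube_eq_one hF h1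
  have hx3 : b.1 3 = b.1 2 := by linear_combination h23 - b.1 2 * h2
  have n45 : b.1 4 ^ 3 + b.1 5 ^ 3 = 0 := by
    rw [h0, hx3] at hn
    linear_combination hn - c1 - (b.1 2) ^ 3 * h2
  by_cases h4 : b.1 4 = 0
  · have h5 : b.1 5 = 0 := by
      rw [h4] at n45
      exact pow_eq_zero_iff (n := 3) (by norm_num) |>.1 (by linear_combination n45)
    refine D.cover.closeAt_conn (conn_step hB (c := ept hF 4) ?_ ?_ ?_ ?_ ?_ ?_)
    · show hermStd 6 hF (std 1) (std 4) = 0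
      rw [std_orth, if_neg (by decide)]
    · show hermStd 6 hF (std 0) (std 4) = 0
      rw [std_orth, if_neg (by decide)]
    · show hermStd 6 hF v'.1 (std 4) = 0
      rw [hv', hermStd_six]; simp [vQuad, std, Pi.single_apply]
    · show hermStd 6 hF (std 4) b.1 = 0
      rw [std_left]; exact h4
    · show hermStd 6 hF (std 0) b.1 = 0
      rw [std_left]; exact h0
    · show hermStd 6 hF b.1 v'.1 = 0
      rw [hv', hermStd_six]; simp [vQuad, h0, hx3]; linear_combination (b.1 2 ^ 2) * h2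
  have h5 : b.1 5 ≠ 0 := fun e => by
    rw [e] at n45
    exact h4 (pow_eq_zero_iff (n := 3) (by norm_num) |>.1 (by linear_combination n45))
  obtain ⟨ζ, z0, z1, zr⟩ : ∃ ζ : F, ζ ≠ 0 ∧ ζ ≠ 1 ∧ ζ ≠ b.1 5 / b.1 4 := by
    classical
    obtain ⟨ζ, hζ⟩ : ∃ ζ : F, ζ ∉ ({0, 1, b.1 5 / b.1 4} : Finset F) := by
      by_contra hc
      push Not at hc
      have h' := Finset.card_le_card (show (Finset.univ : Finset F) ⊆ {0, 1, b.1 5 / b.1 4} from fun x _ => hc x)
      have h3' := Finset.card_le_three (a := (0 : F)) (b := 1) (c := b.1 5 / b.1 4)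
      rw [Finset.card_univ, hF] at h'
      omega
    simp only [Finset.mem_insert, Finset.mem_singleton, not_or] at hζ
    exact ⟨ζ, hζ⟩
  have hζ : ζ ^ 2 + ζ + 1 = 0 := by
    refine (mul_eq_zero.1 (?_ : (ζ - 1) * (ζ ^ 2 + ζ + 1) = 0)).resolve_left (sub_ne_zero.2 z1)
    linear_combination cube_eq_one hF z0
  have c4 := cube_eq_one hF h4
  have c5 := cube_eq_one hF h5
  have z3 := cube_eq_one hF z0
  obtain ⟨T3, hT3⟩ : ∃ T3, T3 = ζ * b.1 4 + b.1 5 := ⟨_, rfl⟩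
  have T30 : T3 ≠ 0 := fun e => zr (by
    rw [eq_div_iff h4]; linear_combination hT3.symm.trans e - b.1 5 * h2)
  obtain ⟨x1, hx1⟩ : ∃ x1, x1 = ζ ^ 2 * b.1 1 := ⟨_, rfl⟩
  have x10 : x1 ≠ 0 := hx1 ▸ mul_ne_zero (pow_ne_zero _ z0) h1
  obtain ⟨p, hp⟩ : ∃ p, p = (T3 / x1) ^ 2 := ⟨_, rfl⟩
  have hpx : x1 * p ^ 2 = T3 := by
    have := cube_eq_one hF (div_ne_zero T30 x10)
    rw [hp, show ((T3 / x1) ^ 2) ^ 2 = (T3 / x1) ^ 3 * (T3 / x1) by ring, this, one_mul, mul_div_cancel₀ _ x10]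
  obtain ⟨A', B₀, A'', C₀, hQ, hP⟩ := hrel p (hp ▸ pow_ne_zero _ (div_ne_zero T30 x10))
  obtain ⟨c, hc⟩ : ∃ c : Sphere (hermStd 6 hF), c.1 = ![0, x1, 0, 0, ζ * b.1 4, b.1 5] :=
    ⟨⟨![0, x1, 0, 0, ζ * b.1 4, b.1 5], by
      rw [hermStd_six]; simp [hx1]
      linear_combination (b.1 1) ^ 3 * (ζ ^ 3 + 1) * z3 + (b.1 4) ^ 3 * z3 + c1 + c4 + c5 + h2⟩, rfl⟩
  have p3 := cube_eq_one hF (hp ▸ pow_ne_zero _ (div_ne_zero T30 x10) : p ≠ 0)
  obtain ⟨r, hr⟩ : ∃ r : Sphere (hermStd 6 hF), r.1 = rQuad p :=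
    ⟨⟨rQuad p, by rw [hermStd_six]; simp [rQuad]; linear_combination p3 + h2⟩, rfl⟩
  have rv : Orth (hermStd 6 hF) r v' := by
    show hermStd 6 hF r.1 v'.1 = 0
    rw [hr, hv', hermStd_six]; simp [rQuad, vQuad]
  have cv : Orth (hermStd 6 hF) c v' := by
    show hermStd 6 hF c.1 v'.1 = 0
    rw [hc, hv', hermStd_six]; simp [vQuad]
  have ec : Orth (hermStd 6 hF) (ept hF 0) c := by
    show hermStd 6 hF (std 0) c.1 = 0
    rw [std_left, hc]; simp
  have bv : Orth (hermStd 6 hF) b v' := by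
    show hermStd 6 hF b.1 v'.1 = 0
    rw [hv', hermStd_six]; simp [vQuad, h0, hx3]; linear_combination (b.1 2 ^ 2) * h2
  have eb : Orth (hermStd 6 hF) (ept hF 0) b := by
    show hermStd 6 hF (std 0) b.1 = 0
    rw [std_left]; exact h0
  have er : Orth (hermStd 6 hF) (ept hF 0) r := by
    show hermStd 6 hF (std 0) r.1 = 0
    rw [std_left, hr]; simp [rQuad]
  have rc : Orth (hermStd 6 hF) r c := by
    show hermStd 6 hF r.1 c.1 = 0
    rw [hr, hc, hermStd_six]; simp [rQuad]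
    linear_combination hpx - hT3 + T3 * h2
  have cb : Orth (hermStd 6 hF) c b := by
    show hermStd 6 hF c.1 b.1 = 0
    rw [hc, hermStd_six]; simp [hx1]
    linear_combination ζ * (b.1 1) ^ 3 * z3 + ζ * c1 + ζ ^ 2 * c4 + c5 + hζ
  exact D.cover.closeAt_trans ec cv
    (D.cover.closeAt_trans er rv (D.closeAt_special hQ hP v' r hv' hr)
      (D.cover.closeAt_conn (Relation.ReflTransGen.single ⟨rc, ec, cv⟩)))
    (D.cover.closeAt_conn (Relation.ReflTransGen.single ⟨cb, eb, bv⟩))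

theorem closeAt_line {u v a b : Sphere (hermStd 6 hF)} {c : F} (hv : v.1 = c • u.1)
    (h1 : Orth (hermStd 6 hF) u a) (h3 : Orth (hermStd 6 hF) u b) (h4 : Orth (hermStd 6 hF) b v) :
    D.cover.CloseAt u v a b := by
  have hB := hermStd_isHerm (n := 6) hF
  obtain ⟨w, hw, w1, w2, w3⟩ := perp_three hB (by rw [finrank_std]; omega) (b := b.1)
    (u.2.symm ▸ one_ne_zero) (a.2.symm ▸ one_ne_zero) h1
  refine D.cover.closeAt_conn (conn_step hB (c := ⟨w, hw⟩) w2 w1 ?_ (hB.eq_zero_symm w3) h3 h4)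
  rw [hv, smul_left, w1, mul_zero]

theorem closes_six (hrel : ∀ p : F, p ≠ 0 → ∃ A' B₀ A'' C₀, IsQuad D.T p A' B₀ A'' C₀ ∧
      D.t * D.ψ A' * D.t = D.ψ B₀ * D.t * D.ψ A'' * D.t * D.ψ C₀) : D.cover.Closes := by
  have hB := hermStd_isHerm (n := 6) hF
  have h2 := two_eq_zero hF
  have hpow : ∀ x : F, powHom hF x = x ^ 2 := fun x => powHom_apply hF x
  refine D.cover.closes_of_closeAt fun u v a b h1 h2' h3 h4 => ?_
  obtain ⟨δ, hδ⟩ : ∃ δ, δ = hermStd 6 hF u.1 v.1 := ⟨_, rfl⟩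
  by_cases h0 : δ = 0
  · exact D.cover.closeAt_adj (show hermStd 6 hF u.1 v.1 = 0 from hδ.symm.trans h0)
  have hδ3 := cube_eq_one hF h0
  obtain ⟨w, hw⟩ : ∃ w : Sphere (hermStd 6 hF), w.1 = δ⁻¹ • v.1 :=
    ⟨⟨δ⁻¹ • v.1, by
      rw [smul_left, smul_right, v.2, hpow]
      field_simp
      exact hδ3.symm⟩, rfl⟩
  have haw : Orth (hermStd 6 hF) a w := by
    show hermStd 6 hF a.1 w.1 = 0
    rw [hw, smul_right, (h2' : hermStd 6 hF a.1 v.1 = 0), mul_zero]
  have hbw : Orth (hermStd 6 hF) b w := by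
    show hermStd 6 hF b.1 w.1 = 0
    rw [hw, smul_right, (h4 : hermStd 6 hF b.1 v.1 = 0), mul_zero]
  refine D.cover.closeAt_mid haw hbw ?_ (D.closeAt_line (c := δ) (by rw [hw, smul_inv_smul₀ h0])
    (hB.eq_zero_symm haw) (hB.eq_zero_symm hbw) h4)
  have huw : hermStd 6 hF u.1 w.1 = 1 := by rw [hw, smul_right, ← hδ, inv_mul_cancel₀ h0]
  by_cases hab : hermStd 6 hF a.1 b.1 = 0
  · exact D.cover.closeAt_conn (Relation.ReflTransGen.single ⟨hab, h3, hbw⟩)
  obtain ⟨r, hr⟩ : ∃ r, r = w.1 - u.1 := ⟨_, rfl⟩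
  by_cases hr0 : r = 0
  · exact D.closeAt_line (c := 1) (by rw [one_smul]; exact sub_eq_zero.1 (hr.symm.trans hr0)) h1 h3 hbw
  have hwu : hermStd 6 hF w.1 u.1 = 1 := by rw [← hB.symm u.1 w.1, huw, map_one]
  have hrr : hermStd 6 hF r r = 0 := by
    rw [hr]; simp [map_sub, LinearMap.sub_apply, w.2, u.2, huw, hwu]
  have hur : hermStd 6 hF u.1 r = 0 := by rw [hr, map_sub, huw, u.2, sub_self]
  have har : hermStd 6 hF a.1 r = 0 := by
    rw [hr, map_sub, (haw : hermStd 6 hF a.1 w.1 = 0), hB.eq_zero_symm h1, sub_zero]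
  obtain ⟨y0, hy0⟩ := hB.exists_apply_eq_one hr0
  obtain ⟨y1, hy1⟩ : ∃ y1, y1 = y0 - hermStd 6 hF u.1 y0 • u.1 - hermStd 6 hF a.1 y0 • a.1 := ⟨_, rfl⟩
  have h1a : hermStd 6 hF u.1 a.1 = 0 := h1
  have h1a' : hermStd 6 hF a.1 u.1 = 0 := hB.eq_zero_symm h1a
  have f1 : hermStd 6 hF u.1 y1 = 0 := by
    rw [hy1]; simp [map_sub, u.2, h1a]
  have f2 : hermStd 6 hF a.1 y1 = 0 := by
    rw [hy1]; simp [map_sub, a.2, h1a']
  have f3 : hermStd 6 hF r y1 = 1 := by
    rw [hy1]; simp [map_sub, hy0, hB.eq_zero_symm hur, hB.eq_zero_symm har]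
  obtain ⟨k, hk⟩ := hB.invol.exists_trace_eq (μ := 1 - hermStd 6 hF y1 y1) (by rw [map_sub, map_one, hB.self_fixed])
  obtain ⟨y, hy⟩ : ∃ y, y = y1 + k • r := ⟨_, rfl⟩
  have fyr : hermStd 6 hF y1 r = 1 := by rw [← hB.symm r y1, f3, map_one]
  have g1 : hermStd 6 hF u.1 y = 0 := by rw [hy, map_add, smul_right, f1, hur]; ring
  have g2 : hermStd 6 hF a.1 y = 0 := by rw [hy, map_add, smul_right, f2, har]; ring
  have g3 : hermStd 6 hF r y = 1 := by rw [hy, map_add, smul_right, f3, hrr]; ring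
  have g4 : hermStd 6 hF y y = 1 := by
    rw [hy]
    simp only [map_add, LinearMap.add_apply, map_smulₛₗ, LinearMap.smul_apply, smul_eq_mul, RingHom.id_apply, fyr, f3, hrr]
    linear_combination hk
  have g3' : hermStd 6 hF y r = 1 := by rw [← hB.symm r y, g3, map_one]
  obtain ⟨s, hs⟩ : ∃ s, s = r + y := ⟨_, rfl⟩
  have k1 : hermStd 6 hF u.1 s = 0 := by rw [hs, map_add, g1, hur, add_zero]
  have k2 : hermStd 6 hF a.1 s = 0 := by rw [hs, map_add, g2, har, add_zero]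
  have k3 : hermStd 6 hF y s = 0 := by rw [hs, map_add, g3', g4]; linear_combination h2
  have k4 : hermStd 6 hF s s = 1 := by
    rw [hs]; simp only [map_add, LinearMap.add_apply, hrr, g3, g3', g4]; linear_combination h2
  obtain ⟨g, hg⟩ := exists_act_eq hF (n := 6) (k := 4) (by omega) ![std 0, std 1, std 2, std 3] ![u.1, a.1, y, s]
    (fun i j => by fin_cases i <;> fin_cases j <;> simp [std_orth])
    (fun i j => by
      fin_cases i <;> fin_cases j <;>
        simp [u.2, a.2, g1, g2, g4, k1, k2, k3, k4, h1a, h1a',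
          hB.eq_zero_symm g1, hB.eq_zero_symm g2, hB.eq_zero_symm k1, hB.eq_zero_symm k2, hB.eq_zero_symm k3])
  obtain ⟨x, hx⟩ := D.proj_surjective g
  obtain ⟨v', hv'⟩ : ∃ v' : Sphere (hermStd 6 hF), v'.1 = vQuad F :=
    ⟨⟨vQuad F, by rw [hermStd_six]; simp [vQuad]; linear_combination h2⟩, rfl⟩
  have hgv : act g (vQuad F) = w.1 := by
    have e : vQuad F = std 0 + std 2 + std 3 := by
      funext i; fin_cases i <;> simp [vQuad, std, Pi.single_apply]
    have e0 : act g (std 0) = u.1 := hg 0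
    have e2 : act g (std 2) = y := hg 2
    have e3 : act g (std 3) = s := hg 3
    unfold act at e0 e2 e3 ⊢
    rw [e, Matrix.mulVec_add, Matrix.mulVec_add, e0, e2, e3, hs, hr,
      show u.1 + y + (w.1 - u.1 + y) = w.1 + (y + y) by abel, ← two_smul F y, h2, zero_smul, add_zero]
  have eu : x • ept hF 0 = u := Subtype.ext (by rw [big_smul, hx]; exact hg 0)
  have ea : x • ept hF 1 = a := Subtype.ext (by rw [big_smul, hx]; exact hg 1)
  have ev : x • v' = w := Subtype.ext (by rw [big_smul, hx, hv']; exact hgv)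
  have hb : act g (x⁻¹ • b : Sphere (hermStd 6 hF)).1 = b.1 := by rw [← hx, ← big_smul, smul_inv_smul]
  obtain ⟨b', hb'⟩ : ∃ b', b' = x⁻¹ • b := ⟨_, rfl⟩
  rw [← hb'] at hb
  have b0 : b'.1 0 = 0 := by
    rw [← std_left (hF := hF) 0 b'.1, ← act_form hF g, hb, show act g (std 0) = u.1 from hg 0]; exact h3
  have b1 : b'.1 1 ≠ 0 := by
    rw [← std_left (hF := hF) 1 b'.1, ← act_form hF g, hb, show act g (std 1) = a.1 from hg 1]; exact hab
  have b23 : b'.1 2 + b'.1 3 = 0 := by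
    have e : hermStd 6 hF (vQuad F) b'.1 = 0 := by
      rw [← act_form hF g, hb, hgv]; exact hB.eq_zero_symm hbw
    rw [hermStd_six] at e
    simp [vQuad, b0] at e
    exact e
  have := D.cover.closeAt_smul x (D.closeAt_base hrel v' b' hv' b0 b23 b1)
  rw [eu, ea, ev, hb', smul_inv_smul] at this
  exact this

end Ext

end CfsgLib.Known.SUBounded
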