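import Cfsg.Agent.Lib.Known.SUBounded.Amal
import Cfsg.Agent.Lib.Known.SUBounded.SixTwo

/-!
# A presentation of `SU n` from one of `SU 4` and one of the alternating group
-/

set_option autoImplicit false

namespace CfsgLib.Known.SUBounded

open CfsgLib.Classical CfsgLib.Classical.Herm

variable {F : Type*} [Field F] {q n s : ℕ}

theorem alt_four_gen :
    Subgroup.closure ({altVia (Fin.castLEEmb (show 3 ≤ 4 by omega)) rot3, dbl} : Set (alternatingGroup (Fin 4))) = ⊤ := by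
  obtain ⟨H, hH⟩ : ∃ H, H = Subgroup.closure
      ({altVia (Fin.castLEEmb (show 3 ≤ 4 by omega)) rot3, dbl} : Set (alternatingGroup (Fin 4))) := ⟨_, rfl⟩
  rw [← hH, eq_top_iff]
  intro x _
  have key : ∀ x : alternatingGroup (Fin 4), ∃ i j : Fin 3,
      x = altVia (Fin.castLEEmb (show 3 ≤ 4 by omega)) rot3 ^ i.val ∨
      x = altVia (Fin.castLEEmb (show 3 ≤ 4 by omega)) rot3 ^ i.val *
        (altVia (Fin.castLEEmb (show 3 ≤ 4 by omega)) rot3 ^ j.val * dbl *
          (altVia (Fin.castLEEmb (show 3 ≤ 4 by omega)) rot3 ^ j.val)⁻¹) := by decide +kernel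
  have hc : altVia (Fin.castLEEmb (show 3 ≤ 4 by omega)) rot3 ∈ H := hH ▸ Subgroup.subset_closure (Or.inl rfl)
  have hd : dbl ∈ H := hH ▸ Subgroup.subset_closure (Or.inr rfl)
  obtain ⟨i, j, e | e⟩ := key x <;> rw [e]
  · exact pow_mem hc _
  · exact mul_mem (pow_mem hc _) (mul_mem (mul_mem (pow_mem hc _) hd) (inv_mem (pow_mem hc _)))

/-- a relabelled element of a block -/
theorem exists_relabel (ρ : Equiv.Perm (Fin s)) (y : Cfsg.SU s F q) :
    ∃ y' : Cfsg.SU s F q, ∀ (k : ℕ) (g : Fin s ↪ Fin k), eF (ρ.toEmbedding.trans g) y = eF g y' := by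
  classical
  have hmv : ∀ v : Fin s → F, Matrix.mulVec (y.1.1.submatrix ρ.symm ρ.symm) v = act y (v ∘ ρ) ∘ ρ.symm :=
    fun v => funext fun i => by
      show ∑ j, y.1.1 (ρ.symm i) (ρ.symm j) * v j = ∑ j, y.1.1 (ρ.symm i) j * v (ρ j)
      rw [← Equiv.sum_comp ρ fun j => y.1.1 (ρ.symm i) (ρ.symm j) * v j]
      simp
  refine ⟨⟨⟨y.1.1.submatrix ρ.symm ρ.symm, by rw [Matrix.det_submatrix_equiv_self]; exact y.1.2⟩, fun u v => ?_⟩,
    fun k g => act_ext fun v => funext fun b => ?_⟩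
  · show Cfsg.hermForm s F q (Matrix.mulVec (y.1.1.submatrix ρ.symm ρ.symm) u)
      (Matrix.mulVec (y.1.1.submatrix ρ.symm ρ.symm) v) = _
    rw [hmv, hmv, hermForm_comp]
    exact (y.2 (u ∘ ρ) (v ∘ ρ)).trans (hermForm_comp ρ u v)
  · by_cases hb : ∃ a, g a = b
    · obtain ⟨a, rfl⟩ := hb
      obtain ⟨a', rfl⟩ := ρ.surjective a
      rw [show g (ρ a') = (ρ.toEmbedding.trans g) a' from rfl, eF_apply,
        show (ρ.toEmbedding.trans g) a' = g (ρ a') from rfl, eF_apply]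
      show _ = Matrix.mulVec (y.1.1.submatrix ρ.symm ρ.symm) (v ∘ g) (ρ a')
      rw [hmv, Function.comp_apply, Equiv.symm_apply_apply]
      rfl
    · rw [eF_outside g _ v (fun a e => hb ⟨a, e⟩), eF_outside _ y v (fun a e => hb ⟨ρ a, e⟩)]

namespace Amal

variable {P Q : Type*} [Group P] [Group Q] (D : Amal F q n s P)

/-- the data seen in another group -/
def map (π : P →* Q) : Amal F q n s Q where
  hn := D.hn
  ψ := π.comp D.ψ
  α := π.comp D.α
  g₀ := D.g₀
  Γ := D.Γ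
  Y := D.Y
  hs := D.hs
  par := D.par
  sym := D.sym
  gen := D.gen
  agree x := congrArg π (D.agree x)
  stab τ ρ hρ e y hy := (D.stab τ ρ hρ e y hy).map π

theorem good_map {m : ℕ} {hm : m ≤ n} {Φ : Cfsg.SU m F q →* P} (h : D.Good hm Φ) (π : P →* Q) :
    (D.map π).Good hm (π.comp Φ) where
  perm x := congrArg π (h.perm x)
  blk g τ ρ hρ e y hy := by
    show π (Φ (eF g y)) = π (D.α τ) * π (D.ψ (eF D.g₀ y)) * (π (D.α τ))⁻¹
    rw [h.blk g τ ρ hρ e y hy, map_mul, map_mul, map_inv]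

theorem good_image {m : ℕ} (h3 : 3 ≤ m) {hm : m ≤ n} {Φ : Cfsg.SU m F q →* P} (h : D.Good hm Φ)
    (θ : P →* Cfsg.SU n F q) (hθψ : ∀ A, θ (D.ψ A) = eF (reg D.hn) A)
    (hθα : ∀ x, θ (D.α x) = permSU F q n x) : θ.comp Φ = eF (reg hm) := by
  refine MonoidHom.eq_of_eqOn_dense (D.gen _ h3) ?_
  rintro _ (⟨x, rfl⟩ | ⟨g, y, hy, rfl⟩)
  · rw [MonoidHom.comp_apply, h.perm, hθα, eF_perm]
  · obtain ⟨τ, ρ, hρ, e⟩ := D.exists_rep (g.trans (reg hm))
    rw [MonoidHom.comp_apply, h.blk g τ ρ hρ e y hy, map_mul, map_mul, map_inv, hθα, hθψ, eF_trans, eF_conj,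
      eF_trans, e, D.sym ρ hρ y hy]

end Amal

variable [Fintype F]

open scoped _root_.Classical in
theorem exists_amal_pres (hF : Fintype.card F = q ^ 2) (hn : 6 ≤ n) {β γ : Type}
    (Rb : Finset (FreeGroup β)) (eb : PresentedGroup (↑Rb : Set (FreeGroup β)) ≃* Cfsg.SU 4 F q)
    (RA : Finset (FreeGroup γ)) (eA : PresentedGroup (↑RA : Set (FreeGroup γ)) ≃* alternatingGroup (Fin n))
    (hs : s ≤ 3) (g₀ : Fin s ↪ Fin 4) (Γ : Subgroup (Equiv.Perm (Fin s))) (Y : Set (Cfsg.SU s F q))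
    (par : s + 2 ≤ 4 ∨ ∃ ρ ∈ Γ, Equiv.Perm.sign ρ = -1)
    (sym : ∀ ρ ∈ Γ, ∀ y ∈ Y, ∀ (k : ℕ) (g : Fin s ↪ Fin k), eF (ρ.toEmbedding.trans g) y = eF g y)
    (gen : ∀ k, 3 ≤ k → Subgroup.closure (Set.range (permSU F q k) ∪
      {A | ∃ (g : Fin s ↪ Fin k) (y : Cfsg.SU s F q), y ∈ Y ∧ A = eF g y}) = ⊤)
    (St : Finset (alternatingGroup (Fin n) × Cfsg.SU 4 F q))
    (hSt : ∀ p ∈ St, Commute (permSU F q n p.1) (eF (reg (show 4 ≤ n by omega)) p.2))
    (hst : ∀ (P : Type) (_ : Group P) (ψ : Cfsg.SU 4 F q →* P) (α : alternatingGroup (Fin n) →* P),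
      (∀ x, ψ (permSU F q 4 x) = α (altVia (reg (show 4 ≤ n by omega)) x)) →
      (∀ p ∈ St, Commute (α p.1) (ψ p.2)) →
      ∀ (τ : alternatingGroup (Fin n)), ∀ ρ ∈ Γ,
        (g₀.trans (reg (show 4 ≤ n by omega))).trans τ.1.toEmbedding =
          ρ.toEmbedding.trans (g₀.trans (reg (show 4 ≤ n by omega))) →
        ∀ y ∈ Y, Commute (α τ) (ψ (eF g₀ y)))
    (hq : (∃ κ : F, powHom hF κ = κ ∧ κ ≠ 0 ∧ κ ≠ 1) ∨ q = 2) :
    ∃ (R : Finset (FreeGroup (β ⊕ γ))) (e : PresentedGroup (↑R : Set (FreeGroup (β ⊕ γ))) ≃* Cfsg.SU n F q),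
      R.card ≤ Rb.card + RA.card + 2 + St.card + (if q = 2 then 3 else 0) ∧
      (∀ i, e (PresentedGroup.of (Sum.inl i)) = eF (reg (show 4 ≤ n by omega)) (eb (PresentedGroup.of i))) ∧
      ∀ j, e (PresentedGroup.of (Sum.inr j)) = permSU F q n (eA (PresentedGroup.of j)) := by
  have h4 : 4 ≤ n := by omega
  choose v hv using fun A : Cfsg.SU 4 F q =>
    (eb.surjective.comp (PresentedGroup.mk_surjective (↑Rb : Set (FreeGroup β)))) A
  choose u hu using fun x : alternatingGroup (Fin n) =>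
    (eA.surjective.comp (PresentedGroup.mk_surjective (↑RA : Set (FreeGroup γ)))) x
  let il : FreeGroup β →* FreeGroup (β ⊕ γ) := FreeGroup.map Sum.inl
  let ir : FreeGroup γ →* FreeGroup (β ⊕ γ) := FreeGroup.map Sum.inr
  let g : β ⊕ γ → Cfsg.SU n F q := fun o => o.elim (fun i => eF (reg h4) (eb (PresentedGroup.of i)))
    fun j => permSU F q n (eA (PresentedGroup.of j))
  have hgl : ∀ x, FreeGroup.lift g (il x) = eF (reg h4) (eb (PresentedGroup.mk _ x)) := fun x =>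
    DFunLike.congr_fun (FreeGroup.ext_hom ((FreeGroup.lift g).comp il)
      (((eF (reg h4)).comp eb.toMonoidHom).comp (PresentedGroup.mk _)) fun i => by
        simp [il, g, PresentedGroup.of]) x
  have hgr : ∀ x, FreeGroup.lift g (ir x) = permSU F q n (eA (PresentedGroup.mk _ x)) := fun x =>
    DFunLike.congr_fun (FreeGroup.ext_hom ((FreeGroup.lift g).comp ir)
      (((permSU F q n).comp eA.toMonoidHom).comp (PresentedGroup.mk _)) fun j => by
        simp [ir, g, PresentedGroup.of]) x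
  have hgv : ∀ A, FreeGroup.lift g (il (v A)) = eF (reg h4) A := fun A => (hgl _).trans (congrArg _ (hv A))
  have hgu : ∀ x, FreeGroup.lift g (ir (u x)) = permSU F q n x := fun x => (hgr _).trans (congrArg _ (hu x))
  obtain ⟨c4, hc4⟩ : ∃ c, c = altVia (Fin.castLEEmb (show 3 ≤ 4 by omega)) rot3 := ⟨_, rfl⟩
  obtain ⟨agr, hagr⟩ : ∃ agr : alternatingGroup (Fin 4) → FreeGroup (β ⊕ γ),
      agr = fun x => il (v (permSU F q 4 x)) * (ir (u (altVia (reg h4) x)))⁻¹ := ⟨_, rfl⟩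
  obtain ⟨stw, hstw⟩ : ∃ stw : alternatingGroup (Fin n) × Cfsg.SU 4 F q → FreeGroup (β ⊕ γ),
      stw = fun p => ir (u p.1) * il (v p.2) * (il (v p.2) * ir (u p.1))⁻¹ := ⟨_, rfl⟩
  obtain ⟨R₀, hR₀⟩ : ∃ R₀ : Finset (FreeGroup (β ⊕ γ)),
      R₀ = Rb.image il ∪ RA.image ir ∪ {agr c4, agr dbl} ∪ St.image stw := ⟨_, rfl⟩
  have hcard₀ : R₀.card ≤ Rb.card + RA.card + 2 + St.card := by
    rw [hR₀]
    refine (Finset.card_union_le _ _).trans (add_le_add ((Finset.card_union_le _ _).trans (add_le_add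
      ((Finset.card_union_le _ _).trans (add_le_add Finset.card_image_le Finset.card_image_le)) ?_))
      Finset.card_image_le)
    exact (Finset.card_insert_le _ _).trans (by simp)
  have hval : ∀ r ∈ R₀, FreeGroup.lift g r = 1 := by
    intro r hr
    simp only [hR₀, Finset.mem_union, Finset.mem_image, Finset.mem_insert, Finset.mem_singleton] at hr
    rcases hr with ((⟨x, hx, rfl⟩ | ⟨x, hx, rfl⟩) | rfl | rfl) | ⟨p, hp, rfl⟩
    · rw [hgl, PresentedGroup.one_of_mem (Finset.mem_coe.2 hx), map_one, map_one]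
    · rw [hgr, PresentedGroup.one_of_mem (Finset.mem_coe.2 hx), map_one, map_one]
    · rw [hagr, map_mul, map_inv, hgv, hgu, eF_perm, mul_inv_cancel]
    · rw [hagr, map_mul, map_inv, hgv, hgu, eF_perm, mul_inv_cancel]
    · rw [hstw, map_mul, map_mul, map_inv, map_mul, hgv, hgu, (hSt p hp).eq, mul_inv_cancel]
  -- the data over any group satisfying the relations
  obtain ⟨D₀, hψ₀, hα₀, hgen₀⟩ : ∃ D : Amal F q n s (PresentedGroup (↑R₀ : Set (FreeGroup (β ⊕ γ)))),
        (∀ A, D.ψ A = PresentedGroup.mk _ (il (v A))) ∧ (∀ x, D.α x = PresentedGroup.mk _ (ir (u x))) ∧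
        D.ψ.range ⊔ D.α.range = ⊤ := by
    let mk := PresentedGroup.mk (↑R₀ : Set (FreeGroup (β ⊕ γ)))
    have hone : ∀ r ∈ R₀, mk r = 1 := fun r hr => PresentedGroup.one_of_mem (Finset.mem_coe.2 hr)
    have hb : ∀ x ∈ (↑Rb : Set (FreeGroup β)), FreeGroup.lift (fun i => mk (FreeGroup.of (Sum.inl i))) x = 1 := by
      intro x hx
      rw [show FreeGroup.lift (fun i => mk (FreeGroup.of (Sum.inl i))) = mk.comp il from
        FreeGroup.ext_hom _ _ fun i => by simp [il], MonoidHom.comp_apply]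
      exact hone _ (by simp only [hR₀, Finset.mem_union, Finset.mem_image]; exact Or.inl (Or.inl (Or.inl ⟨x, hx, rfl⟩)))
    have ha : ∀ x ∈ (↑RA : Set (FreeGroup γ)), FreeGroup.lift (fun j => mk (FreeGroup.of (Sum.inr j))) x = 1 := by
      intro x hx
      rw [show FreeGroup.lift (fun j => mk (FreeGroup.of (Sum.inr j))) = mk.comp ir from
        FreeGroup.ext_hom _ _ fun j => by simp [ir], MonoidHom.comp_apply]
      exact hone _ (by simp only [hR₀, Finset.mem_union, Finset.mem_image]; exact Or.inl (Or.inl (Or.inr ⟨x, hx, rfl⟩)))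
    let ψ : Cfsg.SU 4 F q →* PresentedGroup (↑R₀ : Set (FreeGroup (β ⊕ γ))) :=
      (PresentedGroup.toGroup hb).comp eb.symm.toMonoidHom
    let α : alternatingGroup (Fin n) →* PresentedGroup (↑R₀ : Set (FreeGroup (β ⊕ γ))) :=
      (PresentedGroup.toGroup ha).comp eA.symm.toMonoidHom
    have hψ : ∀ A, ψ A = mk (il (v A)) := fun A => by
      show PresentedGroup.toGroup hb (eb.symm A) = _
      conv_lhs => rw [← hv A, Function.comp_apply, eb.symm_apply_apply]
      exact DFunLike.congr_fun (FreeGroup.ext_hom ((PresentedGroup.toGroup hb).comp (PresentedGroup.mk _))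
        (mk.comp il) fun i => by
          simp only [MonoidHom.comp_apply, il, FreeGroup.map.of]; exact PresentedGroup.toGroup.of hb) (v A)
    have hα : ∀ x, α x = mk (ir (u x)) := fun x => by
      show PresentedGroup.toGroup ha (eA.symm x) = _
      conv_lhs => rw [← hu x, Function.comp_apply, eA.symm_apply_apply]
      exact DFunLike.congr_fun (FreeGroup.ext_hom ((PresentedGroup.toGroup ha).comp (PresentedGroup.mk _))
        (mk.comp ir) fun i => by
          simp only [MonoidHom.comp_apply, ir, FreeGroup.map.of]; exact PresentedGroup.toGroup.of ha) (u x)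
    have agree1 : ∀ x ∈ ({c4, dbl} : Set (alternatingGroup (Fin 4))),
        ψ (permSU F q 4 x) = α (altVia (reg h4) x) := by
      intro x hx
      have := hone (agr x) (by
        simp only [hR₀, Finset.mem_union, Finset.mem_insert, Finset.mem_singleton]
        rcases hx with rfl | rfl
        · exact Or.inl (Or.inr (Or.inl rfl))
        · exact Or.inl (Or.inr (Or.inr rfl)))
      rwa [hagr, map_mul, map_inv, ← hψ, ← hα, mul_inv_eq_one] at this
    have agree : ∀ x, ψ (permSU F q 4 x) = α (altVia (reg h4) x) := fun x =>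
      DFunLike.congr_fun (MonoidHom.eq_of_eqOn_dense (f := ψ.comp (permSU F q 4)) (g := α.comp (altVia (reg h4)))
        (hc4 ▸ alt_four_gen) agree1) x
    have hcom : ∀ p ∈ St, Commute (α p.1) (ψ p.2) := fun p hp => by
      have := hone (stw p) (by
        simp only [hR₀, Finset.mem_union, Finset.mem_image]; exact Or.inr ⟨p, hp, rfl⟩)
      rwa [hstw, map_mul, map_mul, map_inv, map_mul, ← hψ, ← hα, mul_inv_eq_one] at this
    refine ⟨{ hn := h4, ψ := ψ, α := α, g₀ := g₀, Γ := Γ, Y := Y, hs := hs, par := par, sym := sym, gen := gen,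
              agree := agree, stab := hst _ inferInstance ψ α agree hcom }, hψ, hα, ?_⟩
    show ψ.range ⊔ α.range = ⊤
    rw [eq_top_iff, ← PresentedGroup.closure_range_of (↑R₀ : Set (FreeGroup (β ⊕ γ))), Subgroup.closure_le]
    rintro _ ⟨o, rfl⟩
    cases o with
    | inl i =>
      refine Subgroup.mem_sup_left ⟨eb (PresentedGroup.of i), ?_⟩
      show PresentedGroup.toGroup hb (eb.symm (eb _)) = _
      rw [eb.symm_apply_apply, PresentedGroup.toGroup.of]
      rfl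
    | inr j =>
      refine Subgroup.mem_sup_right ⟨eA (PresentedGroup.of j), ?_⟩
      show PresentedGroup.toGroup ha (eA.symm (eA _)) = _
      rw [eA.symm_apply_apply, PresentedGroup.toGroup.of]
      rfl
  obtain ⟨θ₀, hθ₀g⟩ : ∃ θ₀ : PresentedGroup (↑R₀ : Set (FreeGroup (β ⊕ γ))) →* Cfsg.SU n F q,
      ∀ x, θ₀ (PresentedGroup.mk _ x) = FreeGroup.lift g x :=
    ⟨PresentedGroup.toGroup (f := g) fun r hr => hval r (Finset.mem_coe.1 hr), fun x => rfl⟩
  obtain ⟨R, D, θ, hcard, hθ, hψ, hα, hgen, hcl⟩ : ∃ (R : Finset (FreeGroup (β ⊕ γ)))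
      (D : Amal F q n s (PresentedGroup (↑R : Set (FreeGroup (β ⊕ γ)))))
      (θ : PresentedGroup (↑R : Set (FreeGroup (β ⊕ γ))) →* Cfsg.SU n F q),
      R.card ≤ R₀.card + (if q = 2 then 3 else 0) ∧ (∀ x, θ (PresentedGroup.mk _ x) = FreeGroup.lift g x) ∧
      (∀ A, θ (D.ψ A) = eF (reg D.hn) A) ∧ (∀ x, θ (D.α x) = permSU F q n x) ∧ D.ψ.range ⊔ D.α.range = ⊤ ∧
      ∀ (M : ℕ) (hM : 3 ≤ M) (hn1 : M + 1 ≤ n) (hn2 : M + 2 ≤ n)
        (Φ : Cfsg.SU (M + 1) F q →* PresentedGroup (↑R : Set (FreeGroup (β ⊕ γ)))) (hG : D.Good hn1 Φ),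
        (D.toExt hF hM hn1 hn2 Φ hG).cover.Closes := by
    rcases hq with hκ | rfl
    · exact ⟨R₀, D₀, θ₀, Nat.le_add_right _ _, hθ₀g, fun A => by rw [hψ₀, hθ₀g]; exact hgv A,
        fun x => by rw [hα₀, hθ₀g]; exact hgu x, hgen₀, fun M hM hn1 hn2 Φ hG =>
        (D₀.toExt hF hM hn1 hn2 Φ hG).closes_of_dim (Or.inr (Or.inr hκ))⟩
    obtain ⟨Φ₀, hΦ₀⟩ := D₀.step hF (M := 3) le_rfl (by omega) (show 3 + 2 ≤ n by omega) D₀.ψ D₀.good_four
      ((D₀.toExt hF le_rfl (by omega) (show 3 + 2 ≤ n by omega) D₀.ψ D₀.good_four).closes_of_dim (Or.inl rfl))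
    have hθ₀ : θ₀.comp Φ₀ = eF (reg (show 3 + 2 ≤ n by omega)) :=
      D₀.good_image (by omega) hΦ₀ θ₀ (fun A => by rw [hψ₀, hθ₀g]; exact hgv A)
        (fun x => by rw [hα₀, hθ₀g]; exact hgu x)
    obtain ⟨T, hT⟩ : ∃ T, T = tw (M := 4) (by omega) := ⟨_, rfl⟩
    have hT0 : act (permSU F 2 6 T) (std 0) = std 1 := by
      rw [hT, act_perm_std]; exact congrArg std (altVia_apply (Fin.castLEEmb (by omega)) dbl 0)
    have hT1 : act (permSU F 2 6 T) (std 1) = std 0 := by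
      rw [hT, act_perm_std]; exact congrArg std (altVia_apply (Fin.castLEEmb (by omega)) dbl 1)
    have hTT : permSU F 2 6 T * permSU F 2 6 T = 1 := by
      rw [hT, ← map_mul, tw, ← map_mul, show dbl * dbl = 1 by decide, map_one, map_one]
    choose A' B₀ A'' C₀ hQ using fun p : Fˣ => exists_quad hF hT0 hT1 hTT p.ne_zero
    obtain ⟨el, hel⟩ : ∃ el : Fˣ → PresentedGroup (↑R₀ : Set (FreeGroup (β ⊕ γ))), el = fun p =>
        D₀.α (altVia (reg (show 6 ≤ n by omega)) T) * Φ₀ (A' p) * D₀.α (altVia (reg (show 6 ≤ n by omega)) T) *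
          (Φ₀ (B₀ p) * D₀.α (altVia (reg (show 6 ≤ n by omega)) T) * Φ₀ (A'' p) *
            D₀.α (altVia (reg (show 6 ≤ n by omega)) T) * Φ₀ (C₀ p))⁻¹ := ⟨_, rfl⟩
    choose wd hwd using fun p => PresentedGroup.mk_surjective (↑R₀ : Set (FreeGroup (β ⊕ γ))) (el p)
    have hvalR : ∀ r ∈ R₀ ∪ Finset.univ.image wd, FreeGroup.lift g r = 1 := by
      intro r hr
      rcases Finset.mem_union.1 hr with hr | hr
      · exact hval r hr
      obtain ⟨p, -, rfl⟩ := Finset.mem_image.1 hr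
      have hΦ : ∀ A : Cfsg.SU 5 F 2, θ₀ (Φ₀ A) = eF (reg (show 6 ≤ n by omega)) (emb 5 A) := fun A => by
        refine (DFunLike.congr_fun hθ₀ A).trans ?_
        rw [emb_eq_eF, eF_trans, reg_succ]
      have hα : θ₀ (D₀.α (altVia (reg (show 6 ≤ n by omega)) T)) =
          eF (reg (show 6 ≤ n by omega)) (permSU F 2 6 T) := by
        rw [hα₀, hθ₀g, eF_perm]; exact hgu _
      rw [← hθ₀g, hwd, hel]
      simp only [map_mul, map_inv, hΦ, hα]
      simp only [← map_mul, ← map_inv, (hQ p).2.2, mul_inv_cancel, map_one]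
    let π : PresentedGroup (↑R₀ : Set (FreeGroup (β ⊕ γ))) →*
        PresentedGroup (↑(R₀ ∪ Finset.univ.image wd) : Set (FreeGroup (β ⊕ γ))) :=
      PresentedGroup.toGroup (f := fun o => PresentedGroup.of o) fun r hr => by
        rw [show FreeGroup.lift (fun o => (PresentedGroup.of o :
            PresentedGroup (↑(R₀ ∪ Finset.univ.image wd) : Set (FreeGroup (β ⊕ γ))))) = PresentedGroup.mk _ from
          FreeGroup.ext_hom _ _ fun o => by simp [PresentedGroup.of]]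
        exact PresentedGroup.one_of_mem (Finset.mem_coe.2 (Finset.mem_union_left _ hr))
    have hπ : ∀ x, π (PresentedGroup.mk _ x) = PresentedGroup.mk _ x := fun x =>
      DFunLike.congr_fun (FreeGroup.ext_hom (π.comp (PresentedGroup.mk _)) (PresentedGroup.mk _) fun o => by
        simp only [MonoidHom.comp_apply]; exact PresentedGroup.toGroup.of _) x
    obtain ⟨θ, hθ⟩ : ∃ θ : PresentedGroup (↑(R₀ ∪ Finset.univ.image wd) : Set (FreeGroup (β ⊕ γ))) →* Cfsg.SU n F 2,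
        ∀ x, θ (PresentedGroup.mk _ x) = FreeGroup.lift g x :=
      ⟨PresentedGroup.toGroup (f := g) fun r hr => hvalR r (Finset.mem_coe.1 hr), fun x => rfl⟩
    refine ⟨_, D₀.map π, θ, ?_, hθ, fun A => ?_, fun x => ?_, ?_, ?_⟩
    · refine (Finset.card_union_le _ _).trans (add_le_add le_rfl (Finset.card_image_le.trans ?_))
      rw [if_pos rfl, Finset.card_univ, Fintype.card_units, hF]; norm_num
    · show θ (π (D₀.ψ A)) = _
      rw [hψ₀, hπ, hθ]; exact hgv A
    · show θ (π (D₀.α x)) = _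
      rw [hα₀, hπ, hθ]; exact hgu x
    · show (π.comp D₀.ψ).range ⊔ (π.comp D₀.α).range = ⊤
      rw [MonoidHom.range_comp, MonoidHom.range_comp, ← Subgroup.map_sup, hgen₀, ← MonoidHom.range_eq_map,
        MonoidHom.range_eq_top]
      exact fun x => by
        obtain ⟨w, rfl⟩ := PresentedGroup.mk_surjective _ x
        exact ⟨_, hπ w⟩
    intro M hM hn1 hn2 Φ hG
    by_cases hM4 : M = 4
    swap
    · exact ((D₀.map π).toExt hF hM hn1 hn2 Φ hG).closes_of_dim (by omega)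
    subst hM4
    obtain rfl : Φ = π.comp Φ₀ := (D₀.map π).good_unique hn1 (by omega) hG (D₀.good_map hΦ₀ π)
    subst hT
    refine Ext.closes_six _ fun p hp => ⟨_, _, _, _, hQ (Units.mk0 p hp), ?_⟩
    have h1 : π (el (Units.mk0 p hp)) = 1 := by
      rw [← hwd, hπ]
      exact PresentedGroup.one_of_mem (Finset.mem_coe.2
        (Finset.mem_union_right _ (Finset.mem_image_of_mem _ (Finset.mem_univ _))))
    rw [hel, map_mul, map_inv, mul_inv_eq_one] at h1
    simp only [map_mul] at h1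
    exact h1
  have hb : Function.Bijective θ := D.bijective hF hcl hgen θ hψ hα
  refine ⟨R, MulEquiv.ofBijective θ hb, by omega, fun i => ?_, fun j => ?_⟩
  · exact (hθ (FreeGroup.of (Sum.inl i))).trans FreeGroup.lift_apply_of
  · exact (hθ (FreeGroup.of (Sum.inr j))).trans FreeGroup.lift_apply_of

end CfsgLib.Known.SUBounded
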