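import Cfsg.Agent.Lib.Known.SUBounded.Cover
import Cfsg.Agent.Lib.Classical.Unitary.Transvection

/-!
# Orthogonality of the vectors of norm one

In a Hermitian space of dimension at least five short closed walks of orthogonal vectors of norm one are made
of triangles.
-/

set_option autoImplicit false

namespace CfsgLib.Known.SUBounded

open CfsgLib.Classical CfsgLib.Classical.Herm

variable {F : Type*} [Field F] {V : Type*} [AddCommGroup V] [Module F V] {σ : F →+* F}
  {B : V →ₛₗ[σ] V →ₗ[F] F}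

/-- pairwise orthogonal anisotropic vectors -/
def OrthFam (B : V →ₛₗ[σ] V →ₗ[F] F) {l : ℕ} (x : Fin l → V) : Prop :=
  (∀ i, B (x i) (x i) ≠ 0) ∧ ∀ i j, i ≠ j → B (x i) (x j) = 0

variable [Finite F] [FiniteDimensional F V] (h : IsHerm B)
include h

omit [Finite F] in
/-- a totally isotropic space orthogonal to anisotropic vectors is small -/
theorem iso_bound {l : ℕ} {x : Fin l → V} (hx : OrthFam B x) (U : Submodule F V)
    (hU : ∀ y ∈ U, ∀ z ∈ U, B y z = 0) (hUx : ∀ i, ∀ y ∈ U, B (x i) y = 0) :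
    l + 2 * Module.finrank F U ≤ Module.finrank F V := by
  classical
  let g := Module.finBasis F U
  let Φ : V →ₗ[F] (Fin (Module.finrank F U) → F) := LinearMap.pi fun i => B (g i : V)
  have hsurj : Function.Surjective Φ := by
    rw [← LinearMap.range_eq_top]
    by_contra hne
    obtain ⟨φ, hφ0, hφ⟩ := Submodule.exists_dual_map_eq_bot_of_lt_top (lt_top_iff_ne_top.2 hne) inferInstance
    obtain ⟨c, hc⟩ : ∃ c : Fin (Module.finrank F U) → F, ∀ z, φ z = ∑ i, z i * c i :=
      ⟨fun i => φ (Pi.single i 1), fun z => by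
        conv_lhs => rw [pi_eq_sum_univ' z]
        simp [map_sum, map_smul]⟩
    have hzero : ∀ y, φ (Φ y) = 0 := fun y => by
      have : φ (Φ y) ∈ Submodule.map φ (LinearMap.range Φ) := Submodule.mem_map_of_mem (LinearMap.mem_range_self Φ y)
      rwa [hφ, Submodule.mem_bot] at this
    have hw : (∑ i, σ (c i) • (g i : V)) = 0 := h.nondeg _ fun y => by
      have := hzero y
      rw [hc] at this
      rw [map_sum, LinearMap.sum_apply, ← this]
      refine Finset.sum_congr rfl fun i _ => ?_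
      rw [smul_left, h.invol.invol, mul_comm]
      rfl
    have hw' : (∑ i, σ (c i) • g i) = 0 := Subtype.ext (by push_cast; exact hw)
    have hc0 : c = 0 := funext fun i => by
      have := Fintype.linearIndependent_iff.1 g.linearIndependent _ hw' i
      exact (map_eq_zero σ).1 this
    exact hφ0 (LinearMap.ext fun z => by simp [hc, hc0])
  have hker : Module.finrank F (LinearMap.ker Φ) + Module.finrank F U = Module.finrank F V := by
    have := LinearMap.finrank_range_add_finrank_ker Φ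
    rw [LinearMap.range_eq_top.2 hsurj, finrank_top, Module.finrank_fin_fun] at this
    simpa [add_comm] using this
  have hXker : Submodule.span F (Set.range x) ⊔ U ≤ LinearMap.ker Φ := by
    refine sup_le (Submodule.span_le.2 ?_) fun y hy => LinearMap.mem_ker.2 (funext fun i => hU _ (g i).2 _ hy)
    rintro _ ⟨i, rfl⟩
    exact LinearMap.mem_ker.2 (funext fun j => h.eq_zero_symm (hUx i _ (g j).2))
  have hli : LinearIndependent F x := Fintype.linearIndependent_iff.2 fun c hc j => by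
    have := congrArg (B (x j)) hc
    rw [map_sum, map_zero, Finset.sum_eq_single j (fun i _ hi => by rw [smul_right, hx.2 j i hi.symm, mul_zero])
      (by simp), smul_right] at this
    exact (mul_eq_zero.1 this).resolve_right (hx.1 j)
  have hdis : Disjoint (Submodule.span F (Set.range x)) U := by
    rw [Submodule.disjoint_def]
    intro y hy hy'
    obtain ⟨c, rfl⟩ := (Submodule.mem_span_range_iff_exists_fun F).1 hy
    refine Finset.sum_eq_zero fun j _ => ?_
    have := hUx j _ hy'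
    rw [map_sum, Finset.sum_eq_single j (fun i _ hi => by rw [smul_right, hx.2 j i hi.symm, mul_zero]) (by simp),
      smul_right] at this
    rw [(mul_eq_zero.1 this).resolve_right (hx.1 j), zero_smul]
  have := Submodule.finrank_mono hXker
  have e := Submodule.finrank_sup_add_finrank_inf_eq (Submodule.span F (Set.range x)) U
  rw [hdis.eq_bot, finrank_bot, add_zero, finrank_span_eq_card hli, Fintype.card_fin] at e
  omega

/-- a vector of norm one orthogonal to given ones -/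
theorem exists_perp {k l : ℕ} (f : Fin k → V) {x : Fin l → V} (hx : OrthFam B x)
    (hfx : ∀ y, (∀ i, B (f i) y = 0) → ∀ j, B (x j) y = 0) (hn : 2 * k < Module.finrank F V + l) :
    ∃ y, B y y = 1 ∧ ∀ i, B (f i) y = 0 := by
  classical
  let Φ : V →ₗ[F] (Fin k → F) := LinearMap.pi fun i => B (f i)
  have hk : Module.finrank F V ≤ k + Module.finrank F (LinearMap.ker Φ) := by
    have h1 := LinearMap.finrank_range_add_finrank_ker Φ
    have h2 := Submodule.finrank_le (LinearMap.range Φ)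
    rw [Module.finrank_fin_fun] at h2
    omega
  suffices ∃ y ∈ LinearMap.ker Φ, B y y ≠ 0 by
    obtain ⟨y, hy, hy0⟩ := this
    obtain ⟨a, -, ha⟩ := h.scale_to hy0 (map_one σ) one_ne_zero
    exact ⟨a • y, ha, fun i => congrFun (LinearMap.mem_ker.1 (Submodule.smul_mem _ a hy)) i⟩
  by_contra hc
  push Not at hc
  have := iso_bound h hx (LinearMap.ker Φ) (fun y hy z hz => by
    by_contra hyz
    obtain ⟨a, ha⟩ := h.invol.exists_trace_ne_zero
    have key := h.apply_smul_add 1 (a / B y z) y z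
    rw [hc _ (Submodule.add_mem _ (Submodule.smul_mem _ _ hy) (Submodule.smul_mem _ _ hz)), hc _ hy, hc _ hz,
      map_one] at key
    simp only [one_mul, mul_zero, zero_add, div_mul_cancel₀ _ hyz] at key
    exact ha key.symm)
    (fun j y hy => hfx y (fun i => congrFun (LinearMap.mem_ker.1 hy) i) j)
  omega

omit [Finite F] [FiniteDimensional F V] in
theorem orth_cons {l : ℕ} {x : Fin l → V} (hx : OrthFam B x) {y : V} (hy : B y y ≠ 0) (hyx : ∀ i, B y (x i) = 0) :
    OrthFam B (Fin.cons y x : Fin (l + 1) → V) := by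
  refine ⟨fun i => ?_, fun i j hij => ?_⟩
  · cases i using Fin.cases <;> simp [hy, hx.1]
  · cases i using Fin.cases with
    | zero => cases j using Fin.cases with
      | zero => exact absurd rfl hij
      | succ j => simpa using hyx j
    | succ i => cases j using Fin.cases with
      | zero => simpa using h.eq_zero_symm (hyx i)
      | succ j => simpa using hx.2 i j fun e => hij (congrArg Fin.succ e)

omit [Finite F] [FiniteDimensional F V] in
theorem orth_two {u a : V} (hu : B u u ≠ 0) (ha : B a a ≠ 0) (hua : B u a = 0) : OrthFam B ![u, a] := by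
  refine orth_cons h (orth_cons h (⟨fun i => i.elim0, fun i => i.elim0⟩ : OrthFam B (![] : Fin 0 → V)) ha
    fun i => i.elim0) hu fun i => ?_
  fin_cases i
  exact hua

/-- the vertices -/
abbrev Sphere (B : V →ₛₗ[σ] V →ₗ[F] F) := {x : V // B x x = 1}

omit h [Finite F] [FiniteDimensional F V] in
/-- adjacency -/
def Orth (B : V →ₛₗ[σ] V →ₗ[F] F) (x y : Sphere B) : Prop := B x.1 y.1 = 0

theorem perp_three (h5 : 5 ≤ Module.finrank F V) {u a b : V} (hu : B u u ≠ 0) (ha : B a a ≠ 0) (hua : B u a = 0) :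
    ∃ c, B c c = 1 ∧ B u c = 0 ∧ B a c = 0 ∧ B b c = 0 := by
  obtain ⟨c, hc, hfc⟩ := exists_perp h ![u, a, b] (orth_two h hu ha hua) (fun y hy j => by
    fin_cases j <;> [exact hy 0; exact hy 1]) (by omega)
  exact ⟨c, hc, hfc 0, hfc 1, hfc 2⟩

omit [Finite F] [FiniteDimensional F V] in
theorem conn_step {u v a b c : Sphere B} (hac : B a.1 c.1 = 0) (huc : B u.1 c.1 = 0) (hvc : B v.1 c.1 = 0)
    (hcb : B c.1 b.1 = 0) (hub : B u.1 b.1 = 0) (hbv : B b.1 v.1 = 0) : Conn (Orth B) u v a b :=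
  Relation.ReflTransGen.tail (Relation.ReflTransGen.single ⟨hac, huc, h.eq_zero_symm hvc⟩) ⟨hcb, hub, hbv⟩

/-- connectedness of the common neighbours of a nondegenerate pair -/
theorem conn_nondeg (h5 : 5 ≤ Module.finrank F V) {κ : F} (hκ : σ κ = κ) (hκ0 : κ ≠ 0) (hκ1 : κ ≠ 1)
    (u v a b : Sphere B) (h1 : Orth B u a) (h2 : Orth B a v) (h3 : Orth B u b) (h4 : Orth B b v)
    (hd : B u.1 v.1 * σ (B u.1 v.1) ≠ 1) : Conn (Orth B) u v a b := by
  obtain ⟨u, hu⟩ := u
  obtain ⟨v, hv⟩ := v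
  obtain ⟨a, ha⟩ := a
  obtain ⟨b, hb⟩ := b
  simp only [Orth] at h1 h2 h3 h4 hd
  obtain ⟨δ, hδ⟩ : ∃ δ, δ = B u v := ⟨_, rfl⟩
  obtain ⟨v', hv'⟩ : ∃ v', v' = v - δ • u := ⟨_, rfl⟩
  rw [← hδ] at hd
  have huv' : B u v' = 0 := by rw [hv', map_sub, smul_right, hu, mul_one, ← hδ, sub_self]
  have hv'n : B v' v' = 1 - δ * σ δ := by
    rw [hv']
    simp only [map_sub, LinearMap.sub_apply, map_smulₛₗ, LinearMap.smul_apply, smul_eq_mul, RingHom.id_apply, hv, hu]
    rw [← h.symm u v, ← hδ]; ring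
  have hv'0 : B v' v' ≠ 0 := by rw [hv'n]; exact sub_ne_zero.2 (Ne.symm hd)
  have hv'a : B v' a = 0 := by
    rw [hv', sub_left, smul_left, h.eq_zero_symm h2, h1]; ring
  have hv'b : B v' b = 0 := by
    rw [hv', sub_left, smul_left, h.eq_zero_symm h4, h3]; ring
  have hperp : ∀ c, B u c = 0 → B v' c = 0 → B v c = 0 := fun c hc hc' => by
    rw [show v = v' + δ • u by rw [hv', sub_add_cancel], add_left, smul_left, hc, hc', mul_zero, zero_add]
  have hf3 : OrthFam B ![a, u, v'] :=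
    orth_cons h (orth_two h (hu.symm ▸ one_ne_zero) hv'0 huv') (ha.symm ▸ one_ne_zero) (fun i => by
      fin_cases i <;> [exact h.eq_zero_symm h1; exact h.eq_zero_symm hv'a])
  obtain ⟨lam, hlam⟩ : ∃ l, l = B a b := ⟨_, rfl⟩
  obtain ⟨b', hb'⟩ : ∃ b', b' = b - lam • a := ⟨_, rfl⟩
  have hab' : B a b' = 0 := by rw [hb', map_sub, smul_right, ha, mul_one, ← hlam, sub_self]
  have hub' : B u b' = 0 := by rw [hb', map_sub, smul_right, h1, h3, mul_zero, sub_zero]
  have hv'b' : B v' b' = 0 := by rw [hb', map_sub, smul_right, hv'a, hv'b, mul_zero, sub_zero]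
  have hbc : ∀ c, B a c = 0 → B b' c = 0 → B b c = 0 := fun c hc hc' => by
    rw [show b = b' + lam • a by rw [hb', sub_add_cancel], add_left, smul_left, hc, hc', mul_zero, zero_add]
  by_cases hν : B b' b' = 0
  swap
  · obtain ⟨c, hc, hfc⟩ := exists_perp h ![b', a, u, v'] (orth_cons h hf3 hν (fun i => by
      fin_cases i <;> [exact h.eq_zero_symm hab'; exact h.eq_zero_symm hub'; exact h.eq_zero_symm hv'b']))
      (fun y hy => hy) (by omega)
    exact conn_step h (c := ⟨c, hc⟩) (hfc 1) (hfc 2) (hperp c (hfc 2) (hfc 3))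
      (h.eq_zero_symm (hbc c (hfc 1) (hfc 0))) h3 h4
  by_cases hb0 : b' = 0
  · obtain ⟨c, hc, hfc⟩ := exists_perp h ![a, u, v'] hf3 (fun y hy => hy) (by omega)
    exact conn_step h (c := ⟨c, hc⟩) (hfc 0) (hfc 1) (hperp c (hfc 1) (hfc 2))
      (h.eq_zero_symm (hbc c (hfc 0) (by rw [hb0]; exact zero_left c))) h3 h4
  obtain ⟨y0, hy0⟩ := h.exists_apply_eq_one hb0
  obtain ⟨y1, hy1⟩ : ∃ y1, y1 = y0 - B a y0 • a - B u y0 • u - (B v' y0 / B v' v') • v' := ⟨_, rfl⟩
  have ea := h.eq_zero_symm h1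
  have ea' := h.eq_zero_symm hv'a
  have eu := h.eq_zero_symm huv'
  have f1 : B a y1 = 0 := by rw [hy1]; simp [map_sub, ha, ea, ea']
  have f2 : B u y1 = 0 := by rw [hy1]; simp [map_sub, hu, h1, huv']
  have f3 : B v' y1 = 0 := by rw [hy1]; simp [map_sub, hv'a, eu, div_mul_cancel₀ _ hv'0]
  have f4 : B b' y1 = 1 := by
    rw [hy1]; simp [map_sub, hy0, h.eq_zero_symm hab', h.eq_zero_symm hub', h.eq_zero_symm hv'b']
  obtain ⟨s, hs⟩ := h.invol.exists_trace_eq (μ := -B y1 y1) (by rw [map_neg, h.self_fixed])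
  obtain ⟨f, hf⟩ : ∃ f, f = y1 + s • b' := ⟨_, rfl⟩
  have g1 : B a f = 0 := by rw [hf, map_add, smul_right, f1, hab']; ring
  have g2 : B u f = 0 := by rw [hf, map_add, smul_right, f2, hub']; ring
  have g3 : B v' f = 0 := by rw [hf, map_add, smul_right, f3, hv'b']; ring
  have g4 : B b' f = 1 := by rw [hf, map_add, smul_right, f4, hν]; ring
  have g5 : B f f = 0 := by
    have e : B y1 b' = 1 := by rw [← h.symm b' y1, f4, map_one]
    rw [hf]
    simp only [map_add, LinearMap.add_apply, map_smulₛₗ, LinearMap.smul_apply, smul_eq_mul, RingHom.id_apply, e, f4, hν]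
    linear_combination hs
  obtain ⟨y, hy⟩ := h.invol.exists_norm_eq hκ
  obtain ⟨τ, hτ⟩ := h.invol.exists_trace_eq (μ := κ⁻¹) (by rw [map_inv₀, hκ])
  obtain ⟨c, hc⟩ : ∃ c, c = y • f + (τ * y) • b' := ⟨_, rfl⟩
  have k1 : B c c = 1 := by
    rw [hc, h.apply_smul_add, g5, hν, ← h.symm b' f, g4, map_one]
    simp only [mul_zero, zero_add, mul_one, map_mul, h.invol.invol]
    linear_combination (σ y * y) * hτ + κ⁻¹ * hy + mul_inv_cancel₀ hκ0
  have k2 : B a c = 0 := by rw [hc, map_add, smul_right, smul_right, g1, hab']; ring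
  have k3 : B u c = 0 := by rw [hc, map_add, smul_right, smul_right, g2, hub']; ring
  have k4 : B v' c = 0 := by rw [hc, map_add, smul_right, smul_right, g3, hv'b']; ring
  have k5 : B b c = y := by
    rw [show b = b' + lam • a by rw [hb', sub_add_cancel], add_left, smul_left, k2, hc, map_add, smul_right,
      smul_right, g4, hν]; ring
  obtain ⟨b'', hb''⟩ : ∃ b'', b'' = b - B c b • c := ⟨_, rfl⟩
  have hcb : B c b = σ y := by rw [← h.symm b c, k5]
  have m1 : B b'' b'' = 1 - κ := by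
    rw [hb'']
    simp only [map_sub, LinearMap.sub_apply, map_smulₛₗ, LinearMap.smul_apply, smul_eq_mul, RingHom.id_apply, hb, k1,
      hcb, k5, h.invol.invol]
    linear_combination (-1 : F) * hy
  have m2 : B c b'' = 0 := by rw [hb'', map_sub, smul_right, k1, mul_one, sub_self]
  have m3 : B u b'' = 0 := by rw [hb'', map_sub, smul_right, h3, k3, mul_zero, sub_zero]
  have m4 : B v' b'' = 0 := by rw [hb'', map_sub, smul_right, hv'b, k4, mul_zero, sub_zero]
  obtain ⟨d, hd1, hfd⟩ := exists_perp h ![b'', c, u, v'] (orth_cons h (orth_cons h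
      (orth_two h (hu.symm ▸ one_ne_zero) hv'0 huv') (k1.symm ▸ one_ne_zero) (fun i => by
        fin_cases i <;> [exact h.eq_zero_symm k3; exact h.eq_zero_symm k4]))
    (by rw [m1]; exact sub_ne_zero.2 (Ne.symm hκ1)) (fun i => by
      fin_cases i <;> [exact h.eq_zero_symm m2; exact h.eq_zero_symm m3; exact h.eq_zero_symm m4]))
    (fun y hy => hy) (by omega)
  have hcd : B c d = 0 := hfd 1
  have hbd : B b d = 0 := by
    rw [show b = b'' + B c b • c by rw [hb'', sub_add_cancel], add_left, smul_left, hcd, show B b'' d = 0 from hfd 0]; simp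
  refine Relation.ReflTransGen.tail (Relation.ReflTransGen.tail
    (Relation.ReflTransGen.single (b := (⟨c, k1⟩ : Sphere B)) ⟨k2, k3, h.eq_zero_symm (hperp c k3 k4)⟩)
    (c := (⟨d, hd1⟩ : Sphere B)) ⟨hcd, hfd 2, h.eq_zero_symm (hperp d (hfd 2) (hfd 3))⟩) ?_
  exact ⟨h.eq_zero_symm hbd, h3, h4⟩

/-- short closed walks of orthogonal vectors -/
theorem quad (hdim : Module.finrank F V = 5 ∨ 7 ≤ Module.finrank F V ∨
    (5 ≤ Module.finrank F V ∧ ∃ κ, σ κ = κ ∧ κ ≠ 0 ∧ κ ≠ 1)) (u v a b : Sphere B)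
    (h1 : Orth B u a) (h2 : Orth B a v) (h3 : Orth B u b) (h4 : Orth B b v) :
    u = v ∨ Orth B u v ∨ Conn (Orth B) u v a b ∨
      ∃ w, Orth B a w ∧ Orth B b w ∧ Conn (Orth B) u w a b ∧ Conn (Orth B) w v a b := by
  rcases Nat.lt_or_ge (Module.finrank F V) 7 with hlt | h7
  swap
  · obtain ⟨c, hc, hfc⟩ := exists_perp h ![u.1, a.1, v.1, b.1]
      (orth_two h (u.2.symm ▸ one_ne_zero) (a.2.symm ▸ one_ne_zero) h1)
      (fun y hy j => by fin_cases j <;> [exact hy 0; exact hy 1]) (by omega)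
    exact Or.inr (Or.inr (Or.inl (conn_step h (c := ⟨c, hc⟩) (hfc 1) (hfc 0) (hfc 2) (h.eq_zero_symm (hfc 3)) h3 h4)))
  have h5 : 5 ≤ Module.finrank F V := by omega
  obtain ⟨δ, hδ⟩ : ∃ δ, δ = B u.1 v.1 := ⟨_, rfl⟩
  by_cases h0 : δ = 0
  · exact Or.inr (Or.inl (hδ.symm.trans h0))
  have hδN : σ (δ * σ δ) = δ * σ δ := by rw [map_mul, h.invol.invol, mul_comm]
  have hδ0 : δ * σ δ ≠ 0 := mul_ne_zero h0 fun e => h0 ((map_eq_zero σ).1 e)
  by_cases hd : δ * σ δ = 1
  swap
  · exact Or.inr (Or.inr (Or.inl (conn_nondeg h h5 hδN hδ0 hd u v a b h1 h2 h3 h4 (hδ ▸ hd))))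
  obtain ⟨r, hr⟩ : ∃ r, r = v.1 - δ • u.1 := ⟨_, rfl⟩
  have hu0 : B u.1 u.1 ≠ 0 := u.2.symm ▸ one_ne_zero
  have ha0 : B a.1 a.1 ≠ 0 := a.2.symm ▸ one_ne_zero
  have hur : B u.1 r = 0 := by rw [hr, map_sub, smul_right, u.2, mul_one, ← hδ, sub_self]
  have hrr : B r r = 0 := by
    rw [hr]
    simp only [map_sub, LinearMap.sub_apply, map_smulₛₗ, LinearMap.smul_apply, smul_eq_mul, RingHom.id_apply, v.2,
      u.2, ← h.symm u.1 v.1, ← hδ]
    linear_combination -hd
  have har : B a.1 r = 0 := by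
    rw [hr, map_sub, smul_right, (h2 : B a.1 v.1 = 0), h.eq_zero_symm h1, mul_zero, sub_zero]
  have hbr : B b.1 r = 0 := by
    rw [hr, map_sub, smul_right, (h4 : B b.1 v.1 = 0), h.eq_zero_symm h3, mul_zero, sub_zero]
  have hperp : ∀ c, B u.1 c = 0 → B r c = 0 → B v.1 c = 0 := fun c hc hc' => by
    rw [show v.1 = r + δ • u.1 by rw [hr, sub_add_cancel], add_left, smul_left, hc, hc', mul_zero, zero_add]
  by_cases hrκ : r = 0
  · obtain ⟨c, hc, c1, c2, c3⟩ := perp_three h h5 (b := b.1) hu0 ha0 h1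
    exact Or.inr (Or.inr (Or.inl (conn_step h (c := ⟨c, hc⟩) c2 c1
      (hperp c c1 (by rw [hrκ]; exact zero_left c)) (h.eq_zero_symm c3) h3 h4)))
  obtain ⟨lam, hlam⟩ : ∃ l, l = B a.1 b.1 := ⟨_, rfl⟩
  by_cases hl0 : lam = 0
  · exact Or.inr (Or.inr (Or.inl (Relation.ReflTransGen.single ⟨hlam.symm.trans hl0, h3, h4⟩)))
  have hcase : (∃ κ, σ κ = κ ∧ κ ≠ 0 ∧ κ ≠ 1) ∨ (lam * σ lam = 1 ∧ Module.finrank F V = 5) := by
    by_cases hl1 : lam * σ lam = 1
    · rcases hdim with h' | h' | ⟨-, h'⟩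
      · exact Or.inr ⟨hl1, h'⟩
      · omega
      · exact Or.inl h'
    · exact Or.inl ⟨_, by rw [map_mul, h.invol.invol, mul_comm],
        mul_ne_zero hl0 fun e => hl0 ((map_eq_zero σ).1 e), hl1⟩
  rcases hcase with ⟨κ, hκ, hκ0, hκ1⟩ | ⟨hl1, hd5⟩
  swap
  · obtain ⟨b', hb'⟩ : ∃ b', b' = b.1 - lam • a.1 := ⟨_, rfl⟩
    have hab' : B a.1 b' = 0 := by rw [hb', map_sub, smul_right, a.2, mul_one, ← hlam, sub_self]
    have hub' : B u.1 b' = 0 := by
      rw [hb', map_sub, smul_right, (h1 : B u.1 a.1 = 0), (h3 : B u.1 b.1 = 0), mul_zero, sub_zero]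
    have hrb' : B r b' = 0 := by
      rw [hb', map_sub, smul_right, h.eq_zero_symm har, h.eq_zero_symm hbr, mul_zero, sub_zero]
    have hbb' : B b' b' = 0 := by
      rw [hb']
      simp only [map_sub, LinearMap.sub_apply, map_smulₛₗ, LinearMap.smul_apply, smul_eq_mul, RingHom.id_apply, b.2,
        a.2, ← h.symm a.1 b.1, ← hlam]
      linear_combination -hl1
    have hdep : ∃ μ : F, b' = μ • r := by
      by_contra hc
      push Not at hc
      have hli : LinearIndependent F ![r, b'] := by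
        rw [LinearIndependent.pair_iff' hrκ]
        exact fun μ e => hc μ e.symm
      have := iso_bound h (orth_two h hu0 ha0 h1) (Submodule.span F (Set.range ![r, b'])) (by
        intro y hy z hz
        obtain ⟨c, rfl⟩ := (Submodule.mem_span_range_iff_exists_fun F).1 hy
        obtain ⟨c', rfl⟩ := (Submodule.mem_span_range_iff_exists_fun F).1 hz
        simp [Fin.sum_univ_two, hrr, hbb', hrb', h.eq_zero_symm hrb']) (by
        intro i y hy
        obtain ⟨c, rfl⟩ := (Submodule.mem_span_range_iff_exists_fun F).1 hy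
        fin_cases i <;> simp [Fin.sum_univ_two, hur, hub', har, hab'])
      rw [finrank_span_eq_card hli, Fintype.card_fin] at this
      omega
    obtain ⟨μ, hμ⟩ := hdep
    obtain ⟨c, hc, c1, c2, c3⟩ := perp_three h h5 (b := r) hu0 ha0 h1
    refine Or.inr (Or.inr (Or.inl (conn_step h (c := ⟨c, hc⟩) c2 c1 (hperp c c1 c3) ?_ h3 h4)))
    refine h.eq_zero_symm ?_
    rw [show b.1 = μ • r + lam • a.1 by rw [← hμ, hb', sub_add_cancel], add_left, smul_left, smul_left, c2, c3,
      mul_zero, mul_zero, add_zero]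
  obtain ⟨s, hs, s1, s2, s3⟩ := perp_three h h5 (b := b.1) hu0 ha0 h1
  have good : ∀ w : Sphere B, B u.1 w.1 = 0 → B a.1 w.1 = 0 → B b.1 w.1 = 0 → B w.1 v.1 * σ (B w.1 v.1) ≠ 1 →
      u = v ∨ Orth B u v ∨ Conn (Orth B) u v a b ∨
        ∃ w, Orth B a w ∧ Orth B b w ∧ Conn (Orth B) u w a b ∧ Conn (Orth B) w v a b := by
    intro w e1 e2 e3 e4
    refine Or.inr (Or.inr (Or.inr ⟨w, e2, e3, conn_nondeg h h5 hκ hκ0 hκ1 u w a b h1 e2 h3 e3 ?_,
      conn_nondeg h h5 hκ hκ0 hκ1 w v a b (h.eq_zero_symm e2) h2 (h.eq_zero_symm e3) h4 e4⟩))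
    rw [e1, zero_mul]; exact zero_ne_one
  by_cases hρ : B r s = 0
  · refine good ⟨s, hs⟩ s1 s2 s3 ?_
    show B s v.1 * σ (B s v.1) ≠ 1
    rw [h.eq_zero_symm (hperp s s1 hρ), zero_mul]; exact zero_ne_one
  obtain ⟨ρ, hρe⟩ : ∃ ρ, ρ = B r s := ⟨_, rfl⟩
  rw [← hρe] at hρ
  have hσρ : σ ρ ≠ 0 := fun e => hρ ((map_eq_zero σ).1 e)
  obtain ⟨β, hβ⟩ := h.invol.exists_norm_eq (μ := κ / (ρ * σ ρ)) (by
    rw [map_div₀, hκ, map_mul σ ρ, h.invol.invol, mul_comm (σ ρ)])
  have hβ0 : β ≠ 0 := fun e => by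
    rw [e, zero_mul] at hβ
    exact (div_ne_zero hκ0 (mul_ne_zero hρ hσρ)) hβ.symm
  have hσβ : σ β ≠ 0 := fun e => hβ0 ((map_eq_zero σ).1 e)
  obtain ⟨e, he⟩ := h.invol.exists_trace_eq (μ := 1 - β * σ β) (by
    rw [map_sub, map_one, map_mul, h.invol.invol, mul_comm])
  obtain ⟨c, hc⟩ : ∃ c, c = e / (σ β * σ ρ) := ⟨_, rfl⟩
  obtain ⟨w, hw⟩ : ∃ w, w = β • s + c • r := ⟨_, rfl⟩
  have hsr : B s r = σ ρ := by rw [hρe, h.symm]
  have hcm : σ β * c * σ ρ = e := by rw [hc]; field_simp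
  have hww : B w w = 1 := by
    rw [hw, h.apply_smul_add, hs, hrr, hsr, show σ β * c * σ ρ = e from hcm]
    linear_combination he
  refine good ⟨w, hww⟩ ?_ ?_ ?_ ?_
  · show B u.1 w = 0
    rw [hw, map_add, smul_right, smul_right, s1, hur]; ring
  · show B a.1 w = 0
    rw [hw, map_add, smul_right, smul_right, s2, har]; ring
  · show B b.1 w = 0
    rw [hw, map_add, smul_right, smul_right, s3, hbr]; ring
  · show B w v.1 * σ (B w v.1) ≠ 1
    have hrw : B r w = β * ρ := by rw [hw, map_add, smul_right, smul_right, hrr, hρe]; ring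
    have huw : B u.1 w = 0 := by rw [hw, map_add, smul_right, smul_right, s1, hur]; ring
    have hvw : B v.1 w = β * ρ := by
      rw [show v.1 = r + δ • u.1 by rw [hr, sub_add_cancel], add_left, smul_left, hrw, huw, mul_zero, add_zero]
    rw [← h.symm v.1 w, hvw, map_mul, map_mul, h.invol.invol, h.invol.invol]
    intro hh
    apply hκ1
    rw [← hh, show σ β * σ ρ * (β * ρ) = β * σ β * (ρ * σ ρ) by ring, hβ, div_mul_cancel₀ _ (mul_ne_zero hρ hσρ)]

/-- the graph of orthogonal vectors of norm one -/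
theorem tight (hdim : Module.finrank F V = 5 ∨ 7 ≤ Module.finrank F V ∨
    (5 ≤ Module.finrank F V ∧ ∃ κ, σ κ = κ ∧ κ ≠ 0 ∧ κ ≠ 1)) (e : Sphere B) : Tight (Orth B) e where
  irrefl x hx := one_ne_zero ((x.2.symm.trans (hx : B x.1 x.1 = 0)))
  symm _ _ hxy := h.eq_zero_symm hxy
  third v w hvw := by
    obtain ⟨c, hc, c1, c2, c3⟩ := perp_three h (by omega) (b := e.1) (v.2.symm ▸ one_ne_zero) (w.2.symm ▸ one_ne_zero) hvw
    exact ⟨⟨c, hc⟩, c3, h.eq_zero_symm c1, h.eq_zero_symm c2⟩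
  quad u v a b h1 h2 h3 h4 := quad h hdim u v a b h1 h2 h3 h4

end CfsgLib.Known.SUBounded
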