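import Cfsg.Agent.Lib.Known.SUBounded.Coord

/-!
# Extending a homomorphism from `SU (M + 1)` to `SU (M + 2)`
-/

set_option autoImplicit false

namespace CfsgLib.Known.SUBounded

open CfsgLib.Classical CfsgLib.Classical.Herm

variable {F : Type*} [Field F] [Fintype F] {q : ℕ}

omit [Fintype F] in
theorem loc {V : Type*} [AddCommGroup V] [Module F V] [Finite F] [FiniteDimensional F V] {σ : F →+* F}
    {B : V →ₛₗ[σ] V →ₗ[F] F} (h : IsHerm B) (h5 : 5 ≤ Module.finrank F V) (e : Sphere B) : Local (Orth B) e where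
  irrefl x hx := one_ne_zero ((x.2.symm.trans (hx : B x.1 x.1 = 0)))
  symm _ _ hxy := h.eq_zero_symm hxy
  third v w hvw := by
    obtain ⟨c, hc, c1, c2, c3⟩ :=
      perp_three h h5 (b := e.1) (v.2.symm ▸ one_ne_zero) (w.2.symm ▸ one_ne_zero) hvw
    exact ⟨⟨c, hc⟩, c3, h.eq_zero_symm c1, h.eq_zero_symm c2⟩

/-- a homomorphism on `SU (M + 1)` and an image of an element exchanging two coordinate vectors -/
structure Ext (hF : Fintype.card F = q ^ 2) (M : ℕ) (P : Type*) [Group P] where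
  hM : 3 ≤ M
  ψ : Cfsg.SU (M + 1) F q →* P
  T : Cfsg.SU (M + 2) F q
  t : P
  hT0 : act T (std 0) = std 1
  hT1 : act T (std 1) = std 0
  hTT : T * T = 1
  htt : t * t = 1
  hstab : ∀ A : Cfsg.SU M F q, ∃ B,
    emb (M + 1) B = T * emb (M + 1) (emb M A) * T ∧ t * ψ (emb M A) * t = ψ B
  i2 : Fin (M + 2)
  hi2 : i2.val = 2
  htri : ∃ AS AB AC : Cfsg.SU (M + 1) F q, act (emb (M + 1) AS) (std 1) = std i2 ∧
    T * emb (M + 1) AS * T = emb (M + 1) AB * T * emb (M + 1) AC ∧ t * ψ AS * t = ψ AB * t * ψ AC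

namespace Ext

variable {hF : Fintype.card F = q ^ 2} {M : ℕ} {P : Type*} [Group P] (D : Ext hF M P)

/-- the group of pairs -/
def big : Subgroup (P × Cfsg.SU (M + 2) F q) :=
  (D.ψ.prod (emb (M + 1))).range ⊔ Subgroup.zpowers (D.t, D.T)

/-- the vertex stabiliser -/
def low : Cfsg.SU (M + 1) F q →* D.big :=
  (D.ψ.prod (emb (M + 1))).codRestrict _ fun A => Subgroup.mem_sup_left ⟨A, rfl⟩

/-- the edge element -/
def edgeElt : D.big := ⟨(D.t, D.T), Subgroup.mem_sup_right (Subgroup.mem_zpowers _)⟩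

/-- the second projection -/
def proj : D.big →* Cfsg.SU (M + 2) F q := (MonoidHom.snd _ _).comp D.big.subtype

theorem proj_low (A : Cfsg.SU (M + 1) F q) : D.proj (D.low A) = emb (M + 1) A := rfl

theorem proj_edge : D.proj D.edgeElt = D.T := rfl

noncomputable instance : MulAction D.big (Sphere (hermStd (M + 2) hF)) :=
  MulAction.compHom _ D.proj

theorem big_smul (x : D.big) (p : Sphere (hermStd (M + 2) hF)) : (x • p).1 = act (D.proj x) p.1 := rfl

theorem edge_mul : D.edgeElt * D.edgeElt = 1 := Subtype.ext (Prod.ext D.htt D.hTT)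

theorem edge_inv : D.edgeElt⁻¹ = D.edgeElt := inv_eq_of_mul_eq_one_left D.edge_mul

include D in
theorem o01 : (0 : Fin (M + 2)) ≠ 1 := fun e' => by
  have := congrArg Fin.val e'
  simp at this

theorem cover : Cover D.big (Sphere (hermStd (M + 2) hF)) (Orth (hermStd (M + 2) hF)) (ept hF 0) (ept hF 1)
    D.low.range D.edgeElt := by
  have hB := hermStd_isHerm (n := M + 2) hF
  have hM := D.hM
  have h01 := D.o01
  have h02 : (0 : Fin (M + 2)) ≠ D.i2 := fun e' => by
    have := D.hi2; rw [← e'] at this; simp at this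
  have h12 : (1 : Fin (M + 2)) ≠ D.i2 := fun e' => by
    have := D.hi2; rw [← e'] at this; simp at this
  have e10 : (std 1 : Fin (M + 2) → F) = Fin.cons 0 (std 0) := by
    rw [← std_succ]; rfl
  have orth3 : ∀ c : Fin (M + 2) → F, hermStd _ hF c c = 1 → hermStd _ hF (std 0) c = 0 → hermStd _ hF (std 1) c = 0 →
      ∀ i j, hermStd (M + 2) hF ((![std 0, std 1, c] : Fin 3 → _) i) ((![std 0, std 1, c] : Fin 3 → _) j) =
        if i = j then 1 else 0 := fun c hc h0 h1 i j => by
    fin_cases i <;> fin_cases j <;>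
      simp [std_orth, h01, Ne.symm h01, hc, h0, h1, hB.eq_zero_symm h0, hB.eq_zero_symm h1]
  have e1emb : ∀ A : Cfsg.SU (M + 1) F q, act (emb (M + 1) A) (std 1) = std 1 → ∃ A', emb M A' = A := fun A hA => by
    rw [e10, act_emb_succ] at hA
    exact exists_emb hF (Fin.cons_right_injective (α := fun _ => F) (0 : F) hA)
  have hst : ∀ A' : Cfsg.SU M F q, D.edgeElt⁻¹ * D.low (emb M A') * D.edgeElt ∈ D.low.range := fun A' => by
    obtain ⟨B, hB1, hB2⟩ := D.hstab A'
    refine ⟨B, ?_⟩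
    rw [D.edge_inv]
    exact Subtype.ext (Prod.ext hB2.symm hB1)
  obtain ⟨AS, AB, AC, hS1, hS2, hS3⟩ := D.htri
  refine
    { tight := loc hB (by rw [finrank_std]; omega) _
      equiv := fun x p p' hp => ?_
      fix := ?_
      gen := ?_
      sq := by rw [D.edge_mul]; exact one_mem _
      edge := ?_
      move := Subtype.ext (by rw [big_smul, proj_edge]; exact D.hT0)
      trans := fun c hc => ?_
      stab := ?_
      tri := fun c hc hc1 => ?_ }
  · show hermStd _ hF (x • p).1 (x • p').1 = 0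
    rw [big_smul, big_smul, act_form]; exact hp
  · rintro _ ⟨A, rfl⟩
    refine Subtype.ext ?_
    rw [big_smul, proj_low]; exact act_emb_zero A
  · refine Subgroup.map_injective D.big.subtype_injective ?_
    rw [Subgroup.map_sup, ← MonoidHom.range_comp, MonoidHom.map_zpowers, ← MonoidHom.range_eq_map,
      Subgroup.range_subtype]
    rfl
  · show hermStd _ hF (std 0) (std 1) = 0
    rw [std_orth, if_neg h01]
  · obtain ⟨g', hg'⟩ := exists_act_eq hF (n := M + 2) (k := 2) (by omega) ![std 0, std 1] ![std 0, c.1]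
      (fun i j => by fin_cases i <;> fin_cases j <;> simp [std_orth, h01, Ne.symm h01])
      (fun i j => by
        fin_cases i <;> fin_cases j <;>
          simp [std_orth, c.2, (show hermStd _ hF (std 0) c.1 = 0 from hc), hB.eq_zero_symm (show hermStd _ hF (std 0) c.1 = 0 from hc)])
    obtain ⟨A, rfl⟩ := exists_emb hF (hg' 0)
    exact ⟨D.low A, ⟨A, rfl⟩, Subtype.ext (by rw [big_smul, proj_low]; exact hg' 1)⟩
  · rintro _ ⟨A, rfl⟩ hA
    obtain ⟨A', rfl⟩ := e1emb A (by
      have := congrArg Subtype.val hA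
      rwa [big_smul, proj_low] at this)
    exact hst A'
  · obtain ⟨g', hg'⟩ := exists_act_eq hF (n := M + 2) (k := 3) (by omega) ![std 0, std 1, std D.i2]
      ![std 0, std 1, c.1] (orth3 (std D.i2) (by rw [std_orth, if_pos rfl]) (by rw [std_orth, if_neg h02])
        (by rw [std_orth, if_neg h12])) (orth3 c.1 c.2 hc hc1)
    obtain ⟨A, rfl⟩ := exists_emb hF (hg' 0)
    obtain ⟨A', rfl⟩ := e1emb A (hg' 1)
    refine ⟨D.low (emb M A' * AS), ⟨_, rfl⟩, Subtype.ext ?_,
      D.edgeElt⁻¹ * D.low (emb M A') * D.edgeElt * D.low AB, mul_mem (hst A') ⟨_, rfl⟩, D.low AC, ⟨_, rfl⟩, ?_⟩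
    · rw [big_smul, proj_low, map_mul, act_mul]
      exact (congrArg _ hS1).trans (hg' 2)
    · have r3 : D.edgeElt⁻¹ * D.low AS * D.edgeElt = D.low AB * D.edgeElt * D.low AC := by
        rw [D.edge_inv]; exact Subtype.ext (Prod.ext hS3 hS2)
      rw [map_mul]
      calc D.edgeElt⁻¹ * (D.low (emb M A') * D.low AS) * D.edgeElt
            = D.edgeElt⁻¹ * D.low (emb M A') * D.edgeElt * (D.edgeElt⁻¹ * D.low AS * D.edgeElt) := by group
        _ = _ := by rw [r3]; group

/-- the extension -/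
theorem exists_lift (hcl : D.cover.Closes) :
    ∃ Ψ : Cfsg.SU (M + 2) F q →* P, (∀ A, Ψ (emb (M + 1) A) = D.ψ A) ∧ Ψ D.T = D.t := by
  have hinj : Function.Injective D.proj := D.cover.injective hcl D.proj
    (fun x hx => Subtype.ext (by rw [big_smul, hx, act_one]))
    (by
      rintro _ ⟨A, rfl⟩ hA
      rw [proj_low] at hA
      rw [emb_injective (M + 1) (hA.trans (map_one _).symm), map_one])
  have hM := D.hM
  have hsurj : D.proj.range = ⊤ := gen_succ hF (by omega) (t := D.T) D.hT0 _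
    (by rintro _ ⟨A, rfl⟩; exact ⟨D.low A, rfl⟩) ⟨D.edgeElt, rfl⟩
  let E := MulEquiv.ofBijective D.proj ⟨hinj, MonoidHom.range_eq_top.1 hsurj⟩
  refine ⟨((MonoidHom.fst _ _).comp D.big.subtype).comp E.symm.toMonoidHom, fun A => ?_, ?_⟩
  · show ((E.symm (emb (M + 1) A)) : P × Cfsg.SU (M + 2) F q).1 = _
    rw [show E.symm (emb (M + 1) A) = D.low A from E.injective (by rw [E.apply_symm_apply]; rfl)]
    rfl
  · show ((E.symm D.T) : P × Cfsg.SU (M + 2) F q).1 = _
    rw [show E.symm D.T = D.edgeElt from E.injective (by rw [E.apply_symm_apply]; rfl)]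
    rfl

theorem closes_of_dim (hd : M + 2 = 5 ∨ 7 ≤ M + 2 ∨ ∃ κ : F, powHom hF κ = κ ∧ κ ≠ 0 ∧ κ ≠ 1) :
    D.cover.Closes := by
  have := D.hM
  refine D.cover.closes_of_tight (tight (hermStd_isHerm hF) ?_ _)
  rw [finrank_std]
  rcases hd with h | h | h
  · exact Or.inl h
  · exact Or.inr (Or.inl h)
  · exact Or.inr (Or.inr ⟨by omega, h⟩)

end Ext

end CfsgLib.Known.SUBounded
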