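import Cfsg.Agent.Lib.Known.SUBounded.Graph
import Cfsg.Agent.Lib.Known.SpBounded.Blk
import Cfsg.Agent.Lib.Classical.Unitary.MatrixStructure
import Cfsg.Agent.Lib.Classical.Unitary.Order

/-!
# The action on the vectors of norm one of the standard form
-/

set_option autoImplicit false

namespace CfsgLib.Known.SUBounded

open Matrix (SpecialLinearGroup)
open CfsgLib.Classical CfsgLib.Classical.Herm
open CfsgLib.Known.SpBounded (bs pad coe_bs)

variable {F : Type*} [Field F] [Fintype F] {q : ℕ} (hF : Fintype.card F = q ^ 2)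

/-- the action of a matrix of `SU` on a column -/
def act {n : ℕ} (g : Cfsg.SU n F q) (v : Fin n → F) : Fin n → F :=
  Matrix.mulVec ((g : SpecialLinearGroup (Fin n) F) : Matrix (Fin n) (Fin n) F) v

omit [Fintype F] in
theorem act_one {n : ℕ} (v : Fin n → F) : act (1 : Cfsg.SU n F q) v = v := by simp [act]

omit [Fintype F] in
theorem act_mul {n : ℕ} (g h : Cfsg.SU n F q) (v : Fin n → F) : act (g * h) v = act g (act h v) := by
  simp [act, Matrix.mulVec_mulVec]

omit [Fintype F] in
theorem act_inv_eq {n : ℕ} {g : Cfsg.SU n F q} {v w : Fin n → F} (h : act g v = w) : act g⁻¹ w = v := by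
  rw [← h, ← act_mul, inv_mul_cancel, act_one]

theorem act_form {n : ℕ} (g : Cfsg.SU n F q) (v w : Fin n → F) :
    hermStd n hF (act g v) (act g w) = hermStd n hF v w := by
  rw [hermStd_apply, hermStd_apply]
  exact g.2 w v

set_option maxHeartbeats 800000 in
theorem exists_act_eq {n k : ℕ} (hk : k < n) (x y : Fin k → (Fin n → F))
    (hx : ∀ i j, hermStd n hF (x i) (x j) = if i = j then 1 else 0)
    (hy : ∀ i j, hermStd n hF (y i) (y j) = if i = j then 1 else 0) :
    ∃ g : Cfsg.SU n F q, ∀ i, act g (x i) = y i := by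
  classical
  have h := hermStd_isHerm (n := n) hF
  have ox : OrthFam (hermStd n hF) x := ⟨fun i => by rw [hx]; simp, fun i j hij => by rw [hx, if_neg hij]⟩
  have oy : OrthFam (hermStd n hF) y := ⟨fun i => by rw [hy]; simp, fun i j hij => by rw [hy, if_neg hij]⟩
  have li : ∀ z : Fin k → (Fin n → F), OrthFam (hermStd n hF) z → LinearIndependent F z := fun z hz =>
    Fintype.linearIndependent_iff.2 fun c hc j => by
      have := congrArg (hermStd n hF (z j)) hc
      rw [map_sum, map_zero, Finset.sum_eq_single j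
        (fun i _ hi => by rw [smul_right, hz.2 j i hi.symm, mul_zero]) (by simp), smul_right] at this
      exact (mul_eq_zero.1 this).resolve_right (hz.1 j)
  let bx := Module.Basis.span (li x ox)
  let φ : Submodule.span F (Set.range x) →ₗ[F] (Fin n → F) := bx.constr F y
  have hφ : ∀ a, φ a = ∑ i, bx.repr a i • y i := fun a => Module.Basis.constr_apply_fintype F bx y a
  have ha : ∀ a : Submodule.span F (Set.range x), (a : Fin n → F) = ∑ i, bx.repr a i • x i := fun a => by
    conv_lhs => rw [← bx.sum_repr a]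
    rw [Submodule.coe_sum]
    exact Finset.sum_congr rfl fun i _ => by rw [Submodule.coe_smul, Module.Basis.span_apply]
  obtain ⟨g₀, hg₀⟩ := h.exists_extension (Submodule.span F (Set.range x)) φ (fun a b hab => by
      rw [hφ, hφ] at hab
      refine bx.repr.injective (Finsupp.ext fun i => ?_)
      have := Fintype.linearIndependent_iff.1 (li y oy) (fun i => bx.repr a i - bx.repr b i) (by
        rw [show (∑ i, (bx.repr a i - bx.repr b i) • y i) = ∑ i, bx.repr a i • y i - ∑ i, bx.repr b i • y i by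
          rw [← Finset.sum_sub_distrib]; exact Finset.sum_congr rfl fun i _ => sub_smul _ _ _, hab, sub_self]) i
      exact sub_eq_zero.1 this)
    (fun a b => by
      rw [hφ, hφ, ha a, ha b]
      simp only [map_sum, LinearMap.sum_apply, smul_left, smul_right, hx, hy])
  obtain ⟨z, hz, hzy⟩ := exists_perp h y oy (fun w hw => hw) (by rw [finrank_std]; omega)
  have hdet : ((HU.det _ g₀)⁻¹ : Fˣ).val * powHom hF ((HU.det _ g₀)⁻¹ : Fˣ).val = 1 := by
    have := h.det_norm_one g₀
    rw [Units.val_inv_eq_inv_val, map_inv₀, ← mul_inv, this, inv_one]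
  have hz0 : hermStd n hF z z ≠ 0 := by rw [hz]; exact one_ne_zero
  let g₁ : HSU (hermStd n hF) := ⟨h.quasiIso z hz0 _ hdet * g₀, by
    rw [MonoidHom.mem_ker, map_mul, h.det_quasiIso, inv_mul_cancel]⟩
  refine ⟨(suEquiv n hF).symm g₁, fun i => ?_⟩
  show Matrix.mulVec _ (x i) = _
  rw [← suEquiv_apply hF, MulEquiv.apply_symm_apply]
  show quasi _ z hz0 _ ((g₀ : (Fin n → F) ≃ₗ[F] (Fin n → F)) (x i)) = _
  have hi : x i ∈ Submodule.span F (Set.range x) := Submodule.subset_span ⟨i, rfl⟩
  rw [hg₀ ⟨x i, hi⟩, show φ ⟨x i, hi⟩ = y i from ?_]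
  · exact quasi_apply_perp _ _ _ (h.eq_zero_symm (hzy i))
  · rw [show (⟨x i, hi⟩ : Submodule.span F (Set.range x)) = bx i from
      (Module.Basis.span_apply (li x ox) i).symm]
    exact bx.constr_basis F y i

/-- a coordinate vector -/
def std {n : ℕ} (i : Fin n) : Fin n → F := Pi.single i 1

theorem std_left {n : ℕ} (i : Fin n) (w : Fin n → F) : hermStd n hF (std i) w = w i := by
  rw [hermStd_apply, Cfsg.hermForm, Finset.sum_eq_single i (fun j _ hj => ?_) (by simp)]
  · simp [std]
  · have hq : q ≠ 0 := by have := two_le_of_card_sq hF; omega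
    simp [std, hj, hq]

theorem std_orth {n : ℕ} (i j : Fin n) : hermStd n hF (std i) (std j) = if i = j then 1 else 0 := by
  rw [std_left, std, Pi.single_apply]

omit [Fintype F] in
theorem bs_mem {k : ℕ} (A : Cfsg.SU k F q) : bs k F (A : SpecialLinearGroup (Fin k) F) ∈ Cfsg.SU (k + 1) F q := by
  intro u v
  have key : ∀ w : Fin (k + 1) → F, ∀ i, Matrix.mulVec (pad 1 A.1.1) w (Fin.succ i) =
      Matrix.mulVec A.1.1 (fun j => w j.succ) i := fun w i => by
    simp [Matrix.mulVec, dotProduct, Fin.sum_univ_succ]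
  have key0 : ∀ w : Fin (k + 1) → F, Matrix.mulVec (pad 1 A.1.1) w 0 = w 0 := fun w => by
    simp [Matrix.mulVec, dotProduct, Fin.sum_univ_succ]
  show Cfsg.hermForm (k + 1) F q (Matrix.mulVec (pad 1 A.1.1) u) (Matrix.mulVec (pad 1 A.1.1) v) = _
  simp only [Cfsg.hermForm, Fin.sum_univ_succ, key, key0]
  exact congrArg _ (A.2 (fun j => u j.succ) (fun j => v j.succ))

omit [Fintype F] in
/-- the stabiliser of the first vector -/
def emb (k : ℕ) : Cfsg.SU k F q →* Cfsg.SU (k + 1) F q :=
  ((bs k F).comp (Cfsg.SU k F q).subtype).codRestrict _ bs_mem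

omit [Fintype F] in
theorem coe_emb {k : ℕ} (A : Cfsg.SU k F q) :
    ((emb k A : Cfsg.SU (k + 1) F q) : SpecialLinearGroup (Fin (k + 1)) F) = bs k F A.1 := rfl

omit [Fintype F] in
theorem emb_injective (k : ℕ) : Function.Injective (emb (F := F) (q := q) k) := fun A B h =>
  Subtype.ext (SpBounded.bs_injective (congrArg Subtype.val h))

omit [Fintype F] in
theorem act_emb_zero {k : ℕ} (A : Cfsg.SU k F q) : act (emb k A) (std 0) = std 0 := by
  rw [act, coe_emb, coe_bs]
  funext i
  cases i using Fin.cases <;> simp [std, Matrix.mulVec_single, pad, Fin.succ_ne_zero]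

omit [Fintype F] in
theorem act_emb_succ {k : ℕ} (A : Cfsg.SU k F q) (v : Fin k → F) :
    act (emb k A) (Fin.cons 0 v) = Fin.cons 0 (act A v) := by
  funext i
  cases i using Fin.cases <;> simp [act, coe_emb, coe_bs, Matrix.mulVec, dotProduct, Fin.sum_univ_succ]

omit [Fintype F] in
theorem std_succ {k : ℕ} (i : Fin k) : (std i.succ : Fin (k + 1) → F) = Fin.cons 0 (std i) := by
  funext j
  cases j using Fin.cases <;> simp [std, Pi.single_apply, (Fin.succ_ne_zero _).symm]

include hF in
theorem exists_emb {k : ℕ} {g : Cfsg.SU (k + 1) F q} (hg : act g (std 0) = std 0) : ∃ A, emb k A = g := by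
  obtain ⟨M, hM⟩ : ∃ M : Matrix (Fin (k + 1)) (Fin (k + 1)) F, M = g.1.1 := ⟨_, rfl⟩
  have hc : ∀ i, M i 0 = if i = 0 then 1 else 0 := fun i => by
    have := congrFun hg i
    simpa [act, ← hM, std, Matrix.mulVec_single, Pi.single_apply] using this
  have hr : ∀ j, M 0 j = if j = 0 then 1 else 0 := fun j => by
    have h1 := act_form hF g (std 0) (std j)
    rw [hg, std_left, std_left, std, Pi.single_apply] at h1
    have h2 : act g (Pi.single j 1) 0 = M 0 j := by
      simp [act, ← hM, Matrix.mulVec_single]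
    rw [← h2, h1]
    exact if_congr eq_comm rfl rfl
  obtain ⟨M', hM'⟩ : ∃ M', M' = M.submatrix Fin.succ Fin.succ := ⟨_, rfl⟩
  have hp : M = pad 1 M' := by
    refine SpBounded.pad_ext ?_ ?_ ?_ ?_ <;> intros <;> simp [hc, hr, hM', Fin.succ_ne_zero]
  have hd : M'.det = 1 := by
    have := g.1.2
    rwa [← hM, hp, SpBounded.det_pad, one_mul] at this
  refine ⟨⟨⟨M', hd⟩, fun u v => ?_⟩, Subtype.ext (Subtype.ext (hp.symm.trans hM))⟩
  have h1 := g.2 (Fin.cons 0 u) (Fin.cons 0 v)
  have h2 : ∀ w : Fin k → F, Matrix.mulVec g.1.1 (Fin.cons 0 w) = Fin.cons 0 (Matrix.mulVec M' w) := fun w => by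
    rw [← hM, hp]
    funext i
    cases i using Fin.cases <;> simp [Matrix.mulVec, dotProduct, Fin.sum_univ_succ]
  change Cfsg.hermForm (k + 1) F q (Matrix.mulVec g.1.1 _) (Matrix.mulVec g.1.1 _) = _ at h1
  rw [h2, h2] at h1
  simp only [Cfsg.hermForm, Fin.sum_univ_succ, Fin.cons_zero, Fin.cons_succ, zero_mul, zero_add] at h1
  exact h1

include hF in
/-- the stabiliser and one element moving the first vector generate -/
theorem gen_succ {k : ℕ} (hk : 3 ≤ k) {t : Cfsg.SU (k + 1) F q} (ht : act t (std 0) = std 1)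
    (H : Subgroup (Cfsg.SU (k + 1) F q)) (hE : (emb k).range ≤ H) (htH : t ∈ H) : H = ⊤ := by
  rw [eq_top_iff]
  intro g _
  have h := hermStd_isHerm (n := k + 1) hF
  obtain ⟨v, hv⟩ : ∃ v, v = act g (std 0) := ⟨_, rfl⟩
  have hvv : hermStd (k + 1) hF v v = 1 := by rw [hv, act_form, std_orth, if_pos rfl]
  have h0 : hermStd (k + 1) hF (std 0) (std 0) = 1 := by rw [std_orth, if_pos rfl]
  obtain ⟨c, hc, hfc⟩ := exists_perp h ![std 0, v] (x := ![std 0])
    ⟨fun i => by fin_cases i; simp [h0], fun i j hij => absurd (Subsingleton.elim i j) hij⟩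
    (fun y hy j => by fin_cases j; exact hy 0) (by rw [finrank_std]; omega)
  have h01 : (0 : Fin (k + 1)) ≠ 1 := fun e => by
    have := congrArg Fin.val e
    simp at this
    omega
  have reach : ∀ w : Fin (k + 1) → F, hermStd (k + 1) hF w w = 1 → hermStd (k + 1) hF (std 0) w = 0 →
      ∃ x ∈ H, act x (std 0) = w := by
    intro w hw hw0
    obtain ⟨a, ha⟩ := exists_act_eq hF (k := 2) (by omega) ![std 0, std 1] ![std 0, w]
      (fun i j => by fin_cases i <;> fin_cases j <;> simp [std_orth, h01, Ne.symm h01])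
      (fun i j => by fin_cases i <;> fin_cases j <;> simp [h0, hw, hw0, h.eq_zero_symm hw0])
    obtain ⟨A, rfl⟩ := exists_emb hF (ha 0)
    exact ⟨emb k A * t, mul_mem (hE ⟨A, rfl⟩) htH, by rw [act_mul, ht]; exact ha 1⟩
  obtain ⟨x, hx, hxc⟩ := reach c hc (hfc 0)
  obtain ⟨y, hy, hyv⟩ := reach (act x⁻¹ v) (by rw [act_form, hvv]) (by
    rw [← act_inv_eq hxc, act_form]; exact h.eq_zero_symm (hfc 1))
  have hxy : act (x * y) (std 0) = v := by rw [act_mul, hyv, ← act_mul, mul_inv_cancel, act_one]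
  obtain ⟨A, hA⟩ := exists_emb hF (g := (x * y)⁻¹ * g) (by rw [act_mul, ← hv, act_inv_eq hxy])
  rw [show g = x * y * emb k A by rw [hA]; group]
  exact mul_mem (mul_mem hx hy) (hE ⟨A, rfl⟩)

end CfsgLib.Known.SUBounded
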