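import Cfsg.Agent.Lib.Known.SUBounded.Glue
import Cfsg.Agent.Lib.Known.SUBounded.Gen
import Cfsg.Agent.Lib.Known.SLBounded.Stab
import Cfsg.Agent.Lib.Known.SLBounded.All

/-!
# The stabiliser conditions with few relations
-/

set_option autoImplicit false

namespace CfsgLib.Known.SUBounded

open CfsgLib.Perm.AltBounded (viaHom viaHom_apply viaHom_fix viaHom_sign rot)
open CfsgLib.Known.SLBounded (cast3 pk)

variable {n : ℕ}

/-- the reversed first coordinates -/
def rev4 (s : ℕ) (hs : s ≤ 4) : Fin s ↪ Fin 4 :=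
  ⟨fun a => ⟨3 - a.val, by omega⟩, fun a b e => by
    have := congrArg Fin.val e
    simp only at this
    have := a.isLt; have := b.isLt
    exact Fin.ext (by omega)⟩

theorem rev4_reg {s : ℕ} (hs : s ≤ 4) (hn : 4 ≤ n) :
    (rev4 s hs).trans (reg hn) = Fin.castLEEmb (hs.trans hn) := by
  refine Function.Embedding.ext fun a => Fin.ext ?_
  show 4 - 1 - (3 - a.val) = a.val
  have := a.isLt
  omega

theorem dbl_reg (hn : 4 ≤ n) (h2 : 2 ≤ n) :
    altVia (reg hn) dbl = altVia (Fin.castLEEmb hn) dbl ∧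
      (altVia (reg hn) dbl).1 = Equiv.swap (cast3 hn 0) (cast3 hn 1) * Equiv.swap (cast3 hn 2) (pk 3 (by omega)) := by
  have e : ∀ f : Fin 4 ↪ Fin n, (altVia f dbl).1 = Equiv.swap (f 0) (f 1) * Equiv.swap (f 2) (f 3) := by
    intro f
    refine Equiv.ext fun b => ?_
    by_cases hb : ∃ a, f a = b
    · obtain ⟨a, rfl⟩ := hb
      rw [altVia_apply]
      show f (Equiv.swap 0 1 (Equiv.swap 2 3 a)) = _
      rw [← f.injective.swap_apply, ← f.injective.swap_apply]
      rfl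
    · rw [altVia_fix f dbl fun a e => hb ⟨a, e⟩]
      show b = Equiv.swap (f 0) (f 1) (Equiv.swap (f 2) (f 3) b)
      rw [Equiv.swap_apply_of_ne_of_ne (fun e => hb ⟨2, e.symm⟩) (fun e => hb ⟨3, e.symm⟩),
        Equiv.swap_apply_of_ne_of_ne (fun e => hb ⟨0, e.symm⟩) (fun e => hb ⟨1, e.symm⟩)]
  have e2 : (altVia (reg hn) dbl).1 = Equiv.swap (cast3 hn 0) (cast3 hn 1) * Equiv.swap (cast3 hn 2) (pk 3 (by omega)) := by
    rw [e, show reg hn 0 = pk 3 (by omega) from rfl, show reg hn 1 = cast3 hn 2 from rfl,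
      show reg hn 2 = cast3 hn 1 from rfl, show reg hn 3 = cast3 hn 0 from rfl,
      Equiv.swap_comm (pk 3 _) (cast3 hn 2), Equiv.swap_comm (cast3 hn 1) (cast3 hn 0)]
    refine (Equiv.Perm.Disjoint.commute fun v => ?_).eq
    by_cases h : v = cast3 hn 2 ∨ v = pk 3 (show 3 < n by omega)
    · refine Or.inr ?_
      rcases h with rfl | rfl <;>
        refine Equiv.swap_apply_of_ne_of_ne ?_ ?_ <;> simp [cast3, pk, Fin.ext_iff]
    · rw [not_or] at h
      exact Or.inl (Equiv.swap_apply_of_ne_of_ne h.1 h.2)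
  exact ⟨Subtype.ext (e2.trans (e (Fin.castLEEmb hn)).symm), e2⟩

/-- the stabiliser of two coordinates from one element and a double transposition -/
theorem exists_stab_two (hn : 5 ≤ n) : ∃ u : alternatingGroup (Fin n),
    (Fin.castLEEmb (show 2 ≤ n by omega)).trans u.1.toEmbedding = Fin.castLEEmb (show 2 ≤ n by omega) ∧
    ∀ τ : alternatingGroup (Fin n),
      (Fin.castLEEmb (show 2 ≤ n by omega)).trans τ.1.toEmbedding = Fin.castLEEmb (show 2 ≤ n by omega) →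
      τ ∈ Subgroup.closure ({u, altVia (reg (show 4 ≤ n by omega)) dbl * u *
        (altVia (reg (show 4 ≤ n by omega)) dbl)⁻¹} : Set (alternatingGroup (Fin n))) := by
  have h4 : 4 ≤ n := by omega
  obtain ⟨π, u, hπ, -, -, -, -, u0, u1, hgen⟩ := CfsgLib.Known.SLBounded.exists_stab_pair_explicit hn
  obtain ⟨z0, hz0⟩ : ∃ z, z = cast3 h4 0 := ⟨_, rfl⟩
  obtain ⟨z1, hz1⟩ : ∃ z, z = cast3 h4 1 := ⟨_, rfl⟩
  obtain ⟨z2, hz2⟩ : ∃ z, z = cast3 h4 2 := ⟨_, rfl⟩
  obtain ⟨z3, hz3⟩ : ∃ z, z = pk (n := n) 3 (by omega) := ⟨_, rfl⟩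
  obtain ⟨z4, hz4⟩ : ∃ z, z = pk (n := n) 4 (by omega) := ⟨_, rfl⟩
  have v0 : z0.val = 0 := hz0 ▸ rfl
  have v1 : z1.val = 1 := hz1 ▸ rfl
  have v2 : z2.val = 2 := hz2 ▸ rfl
  have v3 : z3.val = 3 := hz3 ▸ rfl
  have v4 : z4.val = 4 := hz4 ▸ rfl
  have ne : ∀ {x y : Fin n}, x.val ≠ y.val → x ≠ y := fun h e => h (congrArg Fin.val e)
  let σ : alternatingGroup (Fin n) := ⟨Equiv.swap z3 z4 * Equiv.swap z2 z3, Equiv.Perm.mem_alternatingGroup.2 (by
    rw [map_mul, Equiv.Perm.sign_swap (ne (by omega)), Equiv.Perm.sign_swap (ne (by omega))]; rfl)⟩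
  have n02 : z0 ≠ z2 := ne (by omega)
  have n03 : z0 ≠ z3 := ne (by omega)
  have n04 : z0 ≠ z4 := ne (by omega)
  have n12 : z1 ≠ z2 := ne (by omega)
  have n13 : z1 ≠ z3 := ne (by omega)
  have n14 : z1 ≠ z4 := ne (by omega)
  have n23 : z2 ≠ z3 := ne (by omega)
  have n24 : z2 ≠ z4 := ne (by omega)
  have n34 : z3 ≠ z4 := ne (by omega)
  have s0 : σ.1 z0 = z0 := by
    show Equiv.swap z3 z4 (Equiv.swap z2 z3 z0) = z0
    rw [Equiv.swap_apply_of_ne_of_ne n02 n03, Equiv.swap_apply_of_ne_of_ne n03 n04]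
  have s1 : σ.1 z1 = z1 := by
    show Equiv.swap z3 z4 (Equiv.swap z2 z3 z1) = z1
    rw [Equiv.swap_apply_of_ne_of_ne n12 n13, Equiv.swap_apply_of_ne_of_ne n13 n14]
  have s3 : σ.1 z3 = z2 := by
    show Equiv.swap z3 z4 (Equiv.swap z2 z3 z3) = z2
    rw [Equiv.swap_apply_right, Equiv.swap_apply_of_ne_of_ne n23 n24]
  have s4 : σ.1 z4 = z3 := by
    show Equiv.swap z3 z4 (Equiv.swap z2 z3 z4) = z3
    rw [Equiv.swap_apply_of_ne_of_ne n24.symm n34.symm, Equiv.swap_apply_right]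
  have hconj : σ * π * σ⁻¹ = altVia (reg h4) dbl := Subtype.ext (by
    show σ.1 * π.1 * σ.1⁻¹ = _
    rw [hπ, (dbl_reg h4 (by omega)).2, ← hz0, ← hz1, ← hz2, ← hz3, ← hz4,
      show σ.1 * (Equiv.swap z0 z1 * Equiv.swap z3 z4) * σ.1⁻¹ =
        (σ.1 * Equiv.swap z0 z1 * σ.1⁻¹) * (σ.1 * Equiv.swap z3 z4 * σ.1⁻¹) by group,
      ← Equiv.swap_apply_apply, ← Equiv.swap_apply_apply, s0, s1, s3, s4])
  have fixes : ∀ g : alternatingGroup (Fin n),
      ((Fin.castLEEmb (show 2 ≤ n by omega)).trans g.1.toEmbedding = Fin.castLEEmb (show 2 ≤ n by omega)) ↔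
        g.1 z0 = z0 ∧ g.1 z1 = z1 := by
    intro g
    constructor
    · intro h
      refine ⟨?_, ?_⟩
      · rw [hz0]; exact DFunLike.congr_fun h 0
      · rw [hz1]; exact DFunLike.congr_fun h 1
    · rintro ⟨a, b⟩
      rw [hz0] at a; rw [hz1] at b
      refine Function.Embedding.ext fun i => ?_
      fin_cases i
      exacts [a, b]
  have sinv : σ.1⁻¹ z0 = z0 ∧ σ.1⁻¹ z1 = z1 :=
    ⟨Equiv.Perm.inv_eq_iff_eq.2 s0.symm, Equiv.Perm.inv_eq_iff_eq.2 s1.symm⟩
  refine ⟨σ * u * σ⁻¹, (fixes _).2 ⟨?_, ?_⟩, fun τ hτ => ?_⟩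
  · show σ.1 (u.1 (σ.1⁻¹ z0)) = z0
    rw [sinv.1, hz0, u0, ← hz0, s0]
  · show σ.1 (u.1 (σ.1⁻¹ z1)) = z1
    rw [sinv.2, hz1, u1, ← hz1, s1]
  obtain ⟨t0, t1⟩ := (fixes τ).1 hτ
  have hm := hgen (σ⁻¹ * τ * σ) (by
      rw [← hz0]; show σ.1⁻¹ (τ.1 (σ.1 z0)) = z0
      rw [s0, t0, sinv.1]) (by
      rw [← hz1]; show σ.1⁻¹ (τ.1 (σ.1 z1)) = z1
      rw [s1, t1, sinv.2])
  have hmap := Subgroup.mem_map_of_mem (MulAut.conj σ).toMonoidHom hm
  rw [MonoidHom.map_closure, Set.image_pair] at hmap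
  simp only [MulEquiv.coe_toMonoidHom, MulAut.conj_apply] at hmap
  rw [show σ * (σ⁻¹ * τ * σ) * σ⁻¹ = τ by group,
    show σ * (π * u * π⁻¹) * σ⁻¹ = σ * π * σ⁻¹ * (σ * u * σ⁻¹) * (σ * π * σ⁻¹)⁻¹ by group, hconj] at hmap
  exact hmap

/-- the setwise stabiliser of three coordinates with the third fixed, from two elements -/
theorem exists_stab_three (hn : 6 ≤ n) : ∃ a b : alternatingGroup (Fin n),
    (∀ x ∈ ({a, b} : Set (alternatingGroup (Fin n))), ∃ ρ ∈ Subgroup.zpowers (Equiv.swap (0 : Fin 3) 1),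
      (Fin.castLEEmb (show 3 ≤ n by omega)).trans x.1.toEmbedding =
        ρ.toEmbedding.trans (Fin.castLEEmb (show 3 ≤ n by omega))) ∧
    ∀ τ : alternatingGroup (Fin n), ∀ ρ ∈ Subgroup.zpowers (Equiv.swap (0 : Fin 3) 1),
      (Fin.castLEEmb (show 3 ≤ n by omega)).trans τ.1.toEmbedding =
        ρ.toEmbedding.trans (Fin.castLEEmb (show 3 ≤ n by omega)) →
      τ ∈ Subgroup.closure ({a, b} : Set (alternatingGroup (Fin n))) := by
  obtain ⟨k, rfl⟩ : ∃ k, n = 3 + (k + 3) := ⟨n - 6, by omega⟩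
  obtain ⟨h0, hh0⟩ : ∃ h : Fin 3 ↪ Fin (3 + (k + 3)), h = Fin.castLEEmb (by omega) := ⟨_, rfl⟩
  rw [← hh0]
  let e : Fin (k + 3) ↪ Fin (3 + (k + 3)) := Fin.natAddEmb 3
  have hdis : ∀ i j, h0 i ≠ e j := fun i j h => by
    rw [hh0] at h
    have := congrArg Fin.val h
    simp [e] at this
    have := i.isLt
    omega
  have hcover : ∀ v, (∃ i, h0 i = v) ∨ ∃ j, e j = v := fun v => by
    rcases Nat.lt_or_ge v.val 3 with h | h
    · exact Or.inl ⟨⟨v.val, h⟩, by rw [hh0]; exact Fin.ext rfl⟩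
    · exact Or.inr ⟨⟨v.val - 3, by omega⟩, Fin.ext (by simp [e]; omega)⟩
  let S : ℤˣ →* Equiv.Perm (Fin 3) :=
    { toFun := fun u => if u = 1 then 1 else Equiv.swap 0 1
      map_one' := if_pos rfl
      map_mul' := by decide }
  have hSsign : ∀ u, Equiv.Perm.sign (S u) = u := by decide
  have hSmem : ∀ u, S u ∈ Subgroup.zpowers (Equiv.swap (0 : Fin 3) 1) := fun u => by
    show (if u = 1 then (1 : Equiv.Perm (Fin 3)) else Equiv.swap 0 1) ∈ _
    split_ifs
    exacts [one_mem _, Subgroup.mem_zpowers _]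
  have hcomm : ∀ (x : Equiv.Perm (Fin (k + 3))) (y : Equiv.Perm (Fin 3)), Commute (viaHom e x) (viaHom h0 y) := by
    intro x y
    refine Equiv.Perm.Disjoint.commute fun v => ?_
    rcases hcover v with ⟨i, rfl⟩ | ⟨j, rfl⟩
    · exact Or.inl (viaHom_fix e x fun j h => hdis i j h.symm)
    · exact Or.inr (viaHom_fix h0 y fun i h => hdis i j h)
  let Φ : Equiv.Perm (Fin (k + 3)) →* alternatingGroup (Fin (3 + (k + 3))) :=
    { toFun := fun x => ⟨viaHom e x * viaHom h0 (S (Equiv.Perm.sign x)), Equiv.Perm.mem_alternatingGroup.2 (by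
        rw [map_mul, viaHom_sign, viaHom_sign, hSsign]; exact Int.units_mul_self _)⟩
      map_one' := Subtype.ext (by simp)
      map_mul' := fun x y => Subtype.ext (by
        show viaHom e (x * y) * viaHom h0 (S (Equiv.Perm.sign (x * y))) =
          viaHom e x * viaHom h0 (S (Equiv.Perm.sign x)) * (viaHom e y * viaHom h0 (S (Equiv.Perm.sign y)))
        rw [map_mul (viaHom e), map_mul Equiv.Perm.sign, map_mul S, map_mul (viaHom h0)]
        exact Commute.mul_mul_mul_comm (hcomm y _) _ _) }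
  have hΦfix : ∀ x, h0.trans (Φ x).1.toEmbedding = (S (Equiv.Perm.sign x)).toEmbedding.trans h0 := fun x =>
    Function.Embedding.ext fun i => by
      show viaHom e x (viaHom h0 (S (Equiv.Perm.sign x)) (h0 i)) = h0 (S (Equiv.Perm.sign x) i)
      rw [viaHom_apply, viaHom_fix e x fun j h => hdis _ j h.symm]
  refine ⟨Φ (finRotate (k + 3)), Φ (Equiv.swap 0 (finRotate (k + 3) 0)), ?_, fun τ ρ hρ hτ => ?_⟩
  · rintro x (rfl | rfl) <;> exact ⟨_, hSmem _, hΦfix _⟩
  have hj : ∀ j, ∃ j', τ.1 (e j) = e j' := fun j => by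
    rcases hcover (τ.1 (e j)) with ⟨i, hi⟩ | ⟨j', hj'⟩
    · exfalso
      obtain ⟨i', rfl⟩ := ρ.surjective i
      exact hdis i' j (τ.1.injective ((DFunLike.congr_fun hτ i').trans hi))
    · exact ⟨j', hj'.symm⟩
  choose f hf using hj
  have hfi : Function.Injective f := fun a b h => e.injective (τ.1.injective (by rw [hf, hf, h]))
  obtain ⟨x, hx⟩ : ∃ x : Equiv.Perm (Fin (k + 3)), ∀ j, x j = f j :=
    ⟨Equiv.ofBijective f (Finite.injective_iff_bijective.1 hfi), fun j => rfl⟩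
  have hprod : τ.1 = viaHom e x * viaHom h0 ρ := by
    refine Equiv.ext fun v => ?_
    rcases hcover v with ⟨i, rfl⟩ | ⟨j, rfl⟩
    · show τ.1 (h0 i) = viaHom e x (viaHom h0 ρ (h0 i))
      rw [viaHom_apply, viaHom_fix e x fun j h => hdis _ j h.symm]
      exact DFunLike.congr_fun hτ i
    · show τ.1 (e j) = viaHom e x (viaHom h0 ρ (e j))
      rw [viaHom_fix h0 ρ fun i h => hdis i j h, viaHom_apply, hf, hx]
  have hsg : Equiv.Perm.sign ρ = Equiv.Perm.sign x := by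
    have h := Equiv.Perm.mem_alternatingGroup.1 τ.2
    rw [hprod, map_mul, viaHom_sign, viaHom_sign] at h
    rcases Int.units_eq_one_or (Equiv.Perm.sign x) with e | e <;> rw [e] at h ⊢
    · simpa using h
    · rcases Int.units_eq_one_or (Equiv.Perm.sign ρ) with e' | e' <;> rw [e'] at h ⊢
      exact absurd h (by decide)
  have hρS : S (Equiv.Perm.sign x) = ρ := by
    rw [← hsg]
    obtain ⟨i, rfl⟩ := Subgroup.mem_zpowers_iff.1 hρ
    obtain ⟨i, rfl | rfl⟩ := Int.even_or_odd' i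
    · rw [zpow_mul, zpow_two, Equiv.swap_mul_self, one_zpow]; decide
    · rw [zpow_add, zpow_mul, zpow_two, Equiv.swap_mul_self, one_zpow, one_mul, zpow_one]; decide
  have hmem : x ∈ Subgroup.closure
      ({finRotate (k + 3), Equiv.swap 0 (finRotate (k + 3) 0)} : Set (Equiv.Perm (Fin (k + 3)))) := by
    rw [Equiv.Perm.closure_cycle_adjacent_swap (isCycle_finRotate_of_le (by omega))
      (support_finRotate_of_le (by omega)) 0]
    exact Subgroup.mem_top _
  have := Subgroup.mem_map_of_mem Φ hmem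
  rw [MonoidHom.map_closure, Set.image_pair] at this
  rwa [show Φ x = τ from Subtype.ext (by
    show viaHom e x * viaHom h0 (S (Equiv.Perm.sign x)) = τ.1
    rw [hρS, hprod])] at this

variable {F : Type*} [Field F] [Fintype F] {q : ℕ}

theorem commute_of_fix {s : ℕ} (g : Fin s ↪ Fin n) (τ : alternatingGroup (Fin n)) {y : Cfsg.SU s F q}
    (h : eF (g.trans τ.1.toEmbedding) y = eF g y) : Commute (permSU F q n τ) (eF g y) :=
  mul_inv_eq_iff_eq_mul.1 (by rw [eF_conj, h])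

open CfsgLib.Classical CfsgLib.Classical.Herm in
theorem exists_kappa (hF : Fintype.card F = q ^ 2) (hq : 3 ≤ q) :
    ∃ κ : F, powHom hF κ = κ ∧ κ ≠ 0 ∧ κ ≠ 1 := by
  classical
  obtain ⟨c, hc⟩ : ∃ c : fixedSub (powHom hF), c ∉ ({0, 1} : Set (fixedSub (powHom hF))) := by
    by_contra hc
    push Not at hc
    have h := Nat.card_mono (Set.toFinite _) (show (Set.univ : Set (fixedSub (powHom hF))) ⊆ {0, 1} from fun x _ => hc x)
    rw [Nat.card_coe_set_eq, Nat.card_coe_set_eq, Set.ncard_univ, card_fixed_powHom hF] at h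
    have := (Set.ncard_insert_le (0 : fixedSub (powHom hF)) {1}).trans (by rw [Set.ncard_singleton])
    omega
  simp only [Set.mem_insert_iff, Set.mem_singleton_iff, not_or] at hc
  exact ⟨c, c.2, fun e => hc.1 (Subtype.ext e), fun e => hc.2 (Subtype.ext e)⟩

open CfsgLib.Classical CfsgLib.Classical.Herm in
theorem exists_pair_two (hF : Fintype.card F = q ^ 2) :
    ∃ a b : Cfsg.SU 2 F q, Subgroup.closure ({a, b} : Set (Cfsg.SU 2 F q)) = ⊤ := by
  letI : Fintype (fixedSub (powHom hF)) := Fintype.ofFinite _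
  obtain ⟨e⟩ := nonempty_su_two_equiv (K := fixedSub (powHom hF)) hF
    (by rw [← Nat.card_eq_fintype_card, card_fixed_powHom hF])
  obtain ⟨a, b, hab⟩ := CfsgLib.Known.SLBounded.exists_pair (F := fixedSub (powHom hF)) 1 le_rfl
  refine ⟨e.symm a, e.symm b, ?_⟩
  have := congrArg (Subgroup.map e.symm.toMonoidHom) hab
  rwa [MonoidHom.map_closure, Set.image_pair, Subgroup.map_top_of_surjective _ e.symm.surjective] at this

/-- presentations of `SU n` for `q ≥ 3` -/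
theorem exists_pres_large (hF : Fintype.card F = q ^ 2) (hq : 3 ≤ q) (hn : 6 ≤ n) {β γ : Type}
    (Rb : Finset (FreeGroup β)) (eb : PresentedGroup (↑Rb : Set (FreeGroup β)) ≃* Cfsg.SU 4 F q)
    (RA : Finset (FreeGroup γ)) (eA : PresentedGroup (↑RA : Set (FreeGroup γ)) ≃* alternatingGroup (Fin n)) :
    ∃ (R : Finset (FreeGroup (β ⊕ γ))) (e : PresentedGroup (↑R : Set (FreeGroup (β ⊕ γ))) ≃* Cfsg.SU n F q),
      R.card ≤ Rb.card + RA.card + 4 ∧
      (∀ i, e (PresentedGroup.of (Sum.inl i)) = eF (reg (show 4 ≤ n by omega)) (eb (PresentedGroup.of i))) ∧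
      ∀ j, e (PresentedGroup.of (Sum.inr j)) = permSU F q n (eA (PresentedGroup.of j)) := by
  classical
  have h4 : 4 ≤ n := by omega
  obtain ⟨a, b, hab⟩ : ∃ a b : Cfsg.SU 2 F q, Subgroup.closure ({a, b} : Set (Cfsg.SU 2 F q)) = ⊤ :=
    exists_pair_two hF
  obtain ⟨u, hu, hgen⟩ := exists_stab_two (n := n) (by omega)
  obtain ⟨κ, hκ, hκ0, hκ1⟩ := exists_kappa hF hq
  obtain ⟨St, hStdef⟩ : ∃ St : Finset (alternatingGroup (Fin n) × Cfsg.SU 4 F q),
      St = {(u, eF (rev4 2 (by omega)) a), (u, eF (rev4 2 (by omega)) b)} := ⟨_, rfl⟩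
  have hSt : ∀ p ∈ St, Commute (permSU F q n p.1) (eF (reg (show 4 ≤ n by omega)) p.2) := by
    intro p hp
    rw [hStdef] at hp
    simp only [Finset.mem_insert, Finset.mem_singleton] at hp
    rcases hp with rfl | rfl <;>
    · rw [eF_trans, rev4_reg]
      exact commute_of_fix _ _ (by rw [hu])
  have hst : ∀ (P : Type) (_ : Group P) (ψ : Cfsg.SU 4 F q →* P) (α : alternatingGroup (Fin n) →* P),
      (∀ x, ψ (permSU F q 4 x) = α (altVia (reg (show 4 ≤ n by omega)) x)) →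
      (∀ p ∈ St, Commute (α p.1) (ψ p.2)) →
      ∀ (τ : alternatingGroup (Fin n)), ∀ ρ ∈ (⊥ : Subgroup (Equiv.Perm (Fin 2))),
        ((rev4 2 (by omega)).trans (reg (show 4 ≤ n by omega))).trans τ.1.toEmbedding =
          ρ.toEmbedding.trans ((rev4 2 (by omega)).trans (reg (show 4 ≤ n by omega))) →
        ∀ y ∈ (Set.univ : Set (Cfsg.SU 2 F q)), Commute (α τ) (ψ (eF (rev4 2 (by omega)) y)) := by
    intro P _ ψ α agree hcom τ ρ hρ hτ y _
    rw [Subgroup.mem_bot.1 hρ, rev4_reg] at hτ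
    let C : Subgroup (alternatingGroup (Fin n)) :=
      (Subgroup.centralizer (Set.range (ψ.comp (eF (rev4 2 (show 2 ≤ 4 by omega)))))).comap α
    suffices hle : τ ∈ C from (Subgroup.mem_centralizer_iff.1 (Subgroup.mem_comap.1 hle) _ ⟨y, rfl⟩).symm
    refine (Subgroup.closure_le C).2 ?_ (hgen τ hτ)
    have hum : u ∈ C := by
      refine Subgroup.mem_comap.2 (Subgroup.mem_centralizer_iff.2 ?_)
      rintro _ ⟨z, rfl⟩
      have hle : Subgroup.closure ({a, b} : Set (Cfsg.SU 2 F q)) ≤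
          (Subgroup.centralizer {α u}).comap (ψ.comp (eF (rev4 2 (show 2 ≤ 4 by omega)))) := by
        rw [Subgroup.closure_le]
        intro x hx
        refine Subgroup.mem_comap.2 (Subgroup.mem_centralizer_singleton_iff.2 ?_)
        refine ((hcom (u, eF (rev4 2 (show 2 ≤ 4 by omega)) x) ?_).eq).symm
        rw [hStdef]
        rcases hx with rfl | rfl <;> simp
      exact (Subgroup.mem_centralizer_singleton_iff.1 (hle (by rw [hab]; exact Subgroup.mem_top z)))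
    rintro x (rfl | rfl)
    · exact hum
    refine Subgroup.mem_comap.2 (Subgroup.mem_centralizer_iff.2 ?_)
    rintro _ ⟨z, rfl⟩
    obtain ⟨z', hz'⟩ := exists_relabel (F := F) (q := q) (Equiv.swap (0 : Fin 2) 1) z
    have hT : (permSU F q 4 dbl)⁻¹ * eF (rev4 2 (show 2 ≤ 4 by omega)) z * permSU F q 4 dbl =
        eF (rev4 2 (show 2 ≤ 4 by omega)) z' := by
      have hi : (permSU F q 4 dbl)⁻¹ = permSU F q 4 dbl := by rw [← map_inv, show dbl⁻¹ = dbl by decide]
      conv_lhs => arg 2; rw [← hi]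
      rw [hi]
      conv_lhs => arg 2; rw [← hi]
      rw [eF_conj, ← hz' 4]
      congr 2
      refine Function.Embedding.ext fun i => ?_
      fin_cases i <;> rfl
    have hc := Subgroup.mem_centralizer_iff.1 (Subgroup.mem_comap.1 hum) _ ⟨z', rfl⟩
    rw [MonoidHom.comp_apply, ← hT, map_mul, map_mul, map_inv, agree] at hc
    rw [MonoidHom.comp_apply, map_mul, map_mul, map_inv]
    generalize ψ (eF (rev4 2 (show 2 ≤ 4 by omega)) z) = A at hc ⊢
    generalize α (altVia (reg (show 4 ≤ n by omega)) dbl) = T at hc ⊢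
    generalize α u = U at hc ⊢
    calc A * (T * U * T⁻¹) = T * (T⁻¹ * A * T * U) * T⁻¹ := by group
      _ = T * (U * (T⁻¹ * A * T)) * T⁻¹ := by rw [hc]
      _ = _ := by group
  obtain ⟨R, e, hc, he⟩ := exists_amal_pres hF hn Rb eb RA eA (s := 2) (by omega) (rev4 2 (by omega)) ⊥ Set.univ
    (Or.inl le_rfl) (fun ρ hρ y _ k g => by rw [Subgroup.mem_bot.1 hρ]; rfl)
    (fun k hk => gen_all hF (gen_three hF hq) k hk) St hSt hst (Or.inl ⟨κ, hκ, hκ0, hκ1⟩)
  refine ⟨R, e, hc.trans ?_, he⟩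
  rw [if_neg (by omega)]
  have : St.card ≤ 2 := hStdef ▸ (Finset.card_insert_le _ _).trans (by simp)
  omega

open CfsgLib.Classical.Herm.ThreeTwo in
/-- presentations of `SU n` for `q = 2` -/
theorem exists_pres_two (hF : Fintype.card F = 2 ^ 2) (hn : 6 ≤ n) {β γ : Type}
    (Rb : Finset (FreeGroup β)) (eb : PresentedGroup (↑Rb : Set (FreeGroup β)) ≃* Cfsg.SU 4 F 2)
    (RA : Finset (FreeGroup γ)) (eA : PresentedGroup (↑RA : Set (FreeGroup γ)) ≃* alternatingGroup (Fin n)) :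
    ∃ (R : Finset (FreeGroup (β ⊕ γ))) (e : PresentedGroup (↑R : Set (FreeGroup (β ⊕ γ))) ≃* Cfsg.SU n F 2),
      R.card ≤ Rb.card + RA.card + 11 ∧
      (∀ i, e (PresentedGroup.of (Sum.inl i)) = eF (reg (show 4 ≤ n by omega)) (eb (PresentedGroup.of i))) ∧
      ∀ j, e (PresentedGroup.of (Sum.inr j)) = permSU F 2 n (eA (PresentedGroup.of j)) := by
  classical
  obtain ⟨w, hw⟩ := exists_omega (F := F) (by rw [hF]; norm_num)
  obtain ⟨a, b, hab, hgen⟩ := exists_stab_three (n := n) hn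
  have hsym : ∀ ρ ∈ Subgroup.zpowers (Equiv.swap (0 : Fin 3) 1), ∀ y ∈ blocksTwo hw, ∀ (k : ℕ) (g : Fin 3 ↪ Fin k),
      eF (ρ.toEmbedding.trans g) y = eF g y := sym_of_gen _ (blocksTwo_sym hw)
  obtain ⟨St, hStdef⟩ : ∃ St : Finset (alternatingGroup (Fin n) × Cfsg.SU 4 F 2),
      St = ({a, b} : Finset (alternatingGroup (Fin n))) ×ˢ
        ({elS hw, elW hw, elW' hw} : Finset (Cfsg.SU 3 F 2)).image (eF (rev4 3 (by omega))) := ⟨_, rfl⟩
  have hY : ∀ y, y ∈ ({elS hw, elW hw, elW' hw} : Finset (Cfsg.SU 3 F 2)) ↔ y ∈ blocksTwo hw := fun y => by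
    simp [blocksTwo]
  have hSt : ∀ p ∈ St, Commute (permSU F 2 n p.1) (eF (reg (show 4 ≤ n by omega)) p.2) := by
    rintro ⟨x, z⟩ hp
    rw [hStdef, Finset.mem_product] at hp
    obtain ⟨hx, hz⟩ := hp
    obtain ⟨y, hy, rfl⟩ := Finset.mem_image.1 hz
    rw [hY] at hy
    obtain ⟨ρ, hρ, hxρ⟩ := hab x (by simpa using hx)
    rw [eF_trans, rev4_reg]
    exact commute_of_fix _ _ (by rw [hxρ, hsym ρ hρ y hy])
  have hst : ∀ (P : Type) (_ : Group P) (ψ : Cfsg.SU 4 F 2 →* P) (α : alternatingGroup (Fin n) →* P),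
      (∀ x, ψ (permSU F 2 4 x) = α (altVia (reg (show 4 ≤ n by omega)) x)) →
      (∀ p ∈ St, Commute (α p.1) (ψ p.2)) →
      ∀ (τ : alternatingGroup (Fin n)), ∀ ρ ∈ Subgroup.zpowers (Equiv.swap (0 : Fin 3) 1),
        ((rev4 3 (by omega)).trans (reg (show 4 ≤ n by omega))).trans τ.1.toEmbedding =
          ρ.toEmbedding.trans ((rev4 3 (by omega)).trans (reg (show 4 ≤ n by omega))) →
        ∀ y ∈ blocksTwo hw, Commute (α τ) (ψ (eF (rev4 3 (by omega)) y)) := by
    intro P _ ψ α _ hcom τ ρ hρ hτ y hy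
    rw [rev4_reg] at hτ
    have hle : Subgroup.closure ({a, b} : Set (alternatingGroup (Fin n))) ≤
        (Subgroup.centralizer {ψ (eF (rev4 3 (show 3 ≤ 4 by omega)) y)}).comap α := by
      rw [Subgroup.closure_le]
      intro x hx
      refine Subgroup.mem_comap.2 (Subgroup.mem_centralizer_singleton_iff.2 (hcom (x, _) ?_).eq)
      rw [hStdef, Finset.mem_product]
      exact ⟨by simpa using hx, Finset.mem_image_of_mem _ ((hY y).2 hy)⟩
    exact Subgroup.mem_centralizer_singleton_iff.1 (hle (hgen τ ρ hρ hτ))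
  obtain ⟨R, e, hc, he⟩ := exists_amal_pres hF hn Rb eb RA eA (s := 3) le_rfl (rev4 3 (by omega))
    (Subgroup.zpowers (Equiv.swap (0 : Fin 3) 1)) (blocksTwo hw)
    (Or.inr ⟨_, Subgroup.mem_zpowers _, by decide⟩) hsym
    (fun k hk => gen_all hF (gen_three_two hw hF) k hk) St hSt hst (Or.inr rfl)
  refine ⟨R, e, hc.trans ?_, he⟩
  rw [if_pos rfl]
  have h1 : ({a, b} : Finset (alternatingGroup (Fin n))).card ≤ 2 := Finset.card_le_two
  have h2 : (({elS hw, elW hw, elW' hw} : Finset (Cfsg.SU 3 F 2)).image (eF (rev4 3 (by omega)))).card ≤ 3 :=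
    Finset.card_image_le.trans Finset.card_le_three
  have : St.card ≤ 2 * 3 := by
    rw [hStdef, Finset.card_product]; exact Nat.mul_le_mul h1 h2
  omega

end CfsgLib.Known.SUBounded
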