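import Cfsg.Agent.Lib.Known.SUBounded.Sphere

/-!
# From a presentation of `SU N` to one of `SU (N + 1)`
-/

set_option autoImplicit false

namespace CfsgLib.Known.SUBounded

open CfsgLib.Classical CfsgLib.Classical.Herm

variable {F : Type*} [Field F] [Fintype F] {q : ℕ} (hF : Fintype.card F = q ^ 2)

/-- the action on the vectors of norm one -/
instance sphereAction {n : ℕ} : MulAction (Cfsg.SU n F q) (Sphere (hermStd n hF)) where
  smul g x := ⟨act g x.1, by rw [act_form, x.2]⟩
  one_smul x := Subtype.ext (act_one x.1)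
  mul_smul g h x := Subtype.ext (act_mul g h x.1)

theorem smul_val {n : ℕ} (g : Cfsg.SU n F q) (x : Sphere (hermStd n hF)) : (g • x).1 = act g x.1 := rfl

/-- a coordinate vector as a vertex -/
noncomputable def ept {n : ℕ} (i : Fin n) : Sphere (hermStd n hF) := ⟨std i, by rw [std_orth, if_pos rfl]⟩

include hF in
/-- generators one dimension up -/
theorem exists_gens_succ {k : ℕ} (hk : 3 ≤ k) {ι : Type*} (h : ι → Cfsg.SU k F q)
    (hh : Subgroup.closure (Set.range h) = ⊤) :
    ∃ h' : Option ι → Cfsg.SU (k + 1) F q, Subgroup.closure (Set.range h') = ⊤ := by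
  have h01 : (0 : Fin (k + 1)) ≠ 1 := fun e => by
    have := congrArg Fin.val e
    simp at this
    omega
  obtain ⟨t, ht⟩ := exists_act_eq hF (n := k + 1) (k := 1) (by omega) ![std 0] ![std 1]
    (fun i j => by fin_cases i; fin_cases j; simp [std_orth]) (fun i j => by fin_cases i; fin_cases j; simp [std_orth])
  refine ⟨fun o => o.elim t fun i => emb k (h i), gen_succ hF hk (ht 0) _ ?_ (Subgroup.subset_closure ⟨none, rfl⟩)⟩
  rw [MonoidHom.range_eq_map, ← hh, MonoidHom.map_closure]
  refine Subgroup.closure_mono ?_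
  rintro _ ⟨_, ⟨i, rfl⟩, rfl⟩
  exact ⟨some i, rfl⟩

include hF in
/-- a presentation one dimension up, with named generators -/
theorem step_pres_gens {M : ℕ} (hM : M = 3 ∨ 5 ≤ M) {α : Type} (R : Finset (FreeGroup α))
    (e : PresentedGroup (↑R : Set (FreeGroup α)) ≃* Cfsg.SU (M + 1) F q) {ι : Type*} [Fintype ι]
    (h : ι → Cfsg.SU M F q) (hh : Subgroup.closure (Set.range h) = ⊤) :
    ∃ R' : Finset (FreeGroup (Option α)), R'.card ≤ R.card + Fintype.card ι + 2 ∧
      ∃ e' : PresentedGroup (↑R' : Set (FreeGroup (Option α))) ≃* Cfsg.SU (M + 2) F q,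
        (∀ a, e' (PresentedGroup.of (some a)) = emb (M + 1) (e (PresentedGroup.of a))) ∧
        act (e' (PresentedGroup.of none)) (std 0) = std 1 := by
  classical
  have hM3 : 3 ≤ M := by omega
  have hB := hermStd_isHerm (n := M + 2) hF
  have o01 : (0 : Fin (M + 2)) ≠ 1 := fun e' => by
    have := congrArg Fin.val e'
    simp at this
  obtain ⟨i2, hi2⟩ : ∃ i2 : Fin (M + 2), i2.val = 2 := ⟨⟨2, by omega⟩, rfl⟩
  have o02 : (0 : Fin (M + 2)) ≠ i2 := fun e' => by rw [← e'] at hi2; simp at hi2
  have o12 : (1 : Fin (M + 2)) ≠ i2 := fun e' => by rw [← e'] at hi2; simp at hi2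
  have e10 : (std 1 : Fin (M + 2) → F) = Fin.cons 0 (std 0) := by
    rw [← std_succ]; rfl
  have orth3 : ∀ c : Fin (M + 2) → F, hermStd _ hF c c = 1 → hermStd _ hF (std 0) c = 0 → hermStd _ hF (std 1) c = 0 →
      ∀ i j, hermStd (M + 2) hF ((![std 0, std 1, c] : Fin 3 → _) i) ((![std 0, std 1, c] : Fin 3 → _) j) =
        if i = j then 1 else 0 := fun c hc h0 h1 i j => by
    fin_cases i <;> fin_cases j <;>
      simp [std_orth, o01, Ne.symm o01, hc, h0, h1, hB.eq_zero_symm h0, hB.eq_zero_symm h1]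
  have orth2 : ∀ c : Fin (M + 2) → F, hermStd _ hF c c = 1 → hermStd _ hF (std 0) c = 0 →
      ∀ i j, hermStd (M + 2) hF ((![std 0, c] : Fin 2 → _) i) ((![std 0, c] : Fin 2 → _) j) =
        if i = j then 1 else 0 := fun c hc h0 i j => by
    fin_cases i <;> fin_cases j <;> simp [std_orth, hc, h0, hB.eq_zero_symm h0]
  -- the element exchanging the first two vectors
  obtain ⟨T, hT⟩ := exists_act_eq hF (n := M + 2) (k := 2) (by omega) ![std 0, std 1] ![std 1, std 0]
    (fun i j => by fin_cases i <;> fin_cases j <;> simp [std_orth, o01, Ne.symm o01])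
    (fun i j => by fin_cases i <;> fin_cases j <;> simp [std_orth, o01, Ne.symm o01])
  have hT0 : act T (std 0) = std 1 := hT 0
  have hT1 : act T (std 1) = std 0 := hT 1
  -- the word for an element of the stabiliser
  choose v hv using fun A : Cfsg.SU (M + 1) F q =>
    (e.surjective.comp (PresentedGroup.mk_surjective (↑R : Set (FreeGroup α)))) A
  let inj : FreeGroup α →* FreeGroup (Option α) := FreeGroup.map some
  let w : Cfsg.SU (M + 1) F q → FreeGroup (Option α) := fun A => inj (v A)
  let τ : FreeGroup (Option α) := FreeGroup.of none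
  let g : Option α → Cfsg.SU (M + 2) F q := fun o => o.elim T fun i => emb (M + 1) (e (PresentedGroup.of i))
  have hginj : ∀ x, FreeGroup.lift g (inj x) = emb (M + 1) (e (PresentedGroup.mk _ x)) := fun x =>
    DFunLike.congr_fun (FreeGroup.ext_hom ((FreeGroup.lift g).comp inj)
      (((emb (M + 1)).comp e.toMonoidHom).comp (PresentedGroup.mk _)) fun i => by simp [inj, g, PresentedGroup.of]) x
  have hgw : ∀ A, FreeGroup.lift g (w A) = emb (M + 1) A := fun A => (hginj _).trans (congrArg _ (hv A))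
  have hgτ : FreeGroup.lift g τ = T := FreeGroup.lift_apply_of
  -- the square
  obtain ⟨A₂, hA₂⟩ := exists_emb hF (g := T * T) (by rw [act_mul, hT0, hT1])
  -- the edge stabiliser
  have hedge : ∀ i, ∃ A, emb (M + 1) A = T⁻¹ * emb (M + 1) (emb M (h i)) * T := fun i =>
    exists_emb hF (by rw [act_mul, act_mul, hT0, e10, act_emb_succ, act_emb_zero, ← e10, act_inv_eq hT0])
  choose Ai hAi using hedge
  -- the triangle
  obtain ⟨S', hS'⟩ := exists_act_eq hF (n := M + 2) (k := 2) (by omega) ![std 0, std 1] ![std 0, std i2]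
    (fun i j => by fin_cases i <;> fin_cases j <;> simp [std_orth, o01, Ne.symm o01])
    (fun i j => by fin_cases i <;> fin_cases j <;> simp [std_orth, o02, Ne.symm o02])
  obtain ⟨AS, rfl⟩ := exists_emb hF (hS' 0)
  have hS1 : act (emb (M + 1) AS) (std 1) = std i2 := hS' 1
  obtain ⟨d, hd⟩ : ∃ d, d = act T⁻¹ (std i2) := ⟨_, rfl⟩
  obtain ⟨B', hB'⟩ := exists_act_eq hF (n := M + 2) (k := 2) (by omega) ![std 0, std 1] ![std 0, d]
    (fun i j => by fin_cases i <;> fin_cases j <;> simp [std_orth, o01, Ne.symm o01])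
    (orth2 d (by rw [hd, act_form, std_orth, if_pos rfl])
      (by rw [hd, ← act_inv_eq hT0, act_form, std_orth, if_neg o12]))
  obtain ⟨AB, rfl⟩ := exists_emb hF (hB' 0)
  obtain ⟨AC, hAC⟩ := exists_emb hF (g := (emb (M + 1) AB * T)⁻¹ * (T⁻¹ * emb (M + 1) AS * T)) (by
    rw [act_mul, act_mul, act_mul, hT0, hS1, ← hd]
    exact act_inv_eq (by rw [act_mul, hT0]; exact hB' 1))
  -- the relations
  let R' : Finset (FreeGroup (Option α)) := (R.image inj ∪ Finset.univ.image fun i => τ⁻¹ * w (emb M (h i)) * τ * (w (Ai i))⁻¹) ∪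
    {τ * τ * (w A₂)⁻¹, τ⁻¹ * w AS * τ * (w AB * τ * w AC)⁻¹}
  have hR' : ∀ r ∈ (↑R' : Set (FreeGroup (Option α))), FreeGroup.lift g r = 1 := by
    intro r hr
    simp only [R', Finset.coe_union, Finset.coe_image, Set.mem_union, Set.mem_image, Finset.coe_insert,
      Finset.coe_singleton, Set.mem_insert_iff, Set.mem_singleton_iff, Finset.coe_univ, Set.mem_univ, true_and] at hr
    rcases hr with (⟨x, hx, rfl⟩ | ⟨i, rfl⟩) | rfl | rfl
    · rw [hginj, PresentedGroup.one_of_mem hx, map_one, map_one]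
    · rw [map_mul, map_mul, map_mul, map_inv, map_inv, hgτ, hgw, hgw, hAi, mul_inv_cancel]
    · rw [map_mul, map_mul, map_inv, hgτ, hgw, hA₂, mul_inv_cancel]
    · rw [map_mul, map_mul, map_mul, map_inv, map_inv, map_mul, map_mul, hgτ, hgw, hgw, hgw, hAC, mul_inv_cancel_left,
        mul_inv_cancel]
  let θ := PresentedGroup.toGroup hR'
  let mk := PresentedGroup.mk (↑R' : Set (FreeGroup (Option α)))
  have hone : ∀ r ∈ R', mk r = 1 := fun r hr => PresentedGroup.one_of_mem (Finset.mem_coe.2 hr)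
  have hψ0 : ∀ x ∈ (↑R : Set (FreeGroup α)), FreeGroup.lift (fun i => mk (FreeGroup.of (some i))) x = 1 := by
    intro x hx
    rw [show FreeGroup.lift (fun i => mk (FreeGroup.of (some i))) = mk.comp inj from
      FreeGroup.ext_hom _ _ fun i => by simp [inj], MonoidHom.comp_apply]
    exact hone _ (Finset.mem_union_left _ (Finset.mem_union_left _ (Finset.mem_image_of_mem _ hx)))
  let ψ : Cfsg.SU (M + 1) F q →* PresentedGroup (↑R' : Set (FreeGroup (Option α))) :=
    (PresentedGroup.toGroup hψ0).comp e.symm.toMonoidHom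
  have hψw : ∀ A, mk (w A) = ψ A := fun A => by
    show _ = PresentedGroup.toGroup hψ0 (e.symm A)
    conv_rhs => rw [← hv A, Function.comp_apply, e.symm_apply_apply]
    exact DFunLike.congr_fun (FreeGroup.ext_hom (mk.comp inj)
      ((PresentedGroup.toGroup hψ0).comp (PresentedGroup.mk _)) fun i => by
        simp only [MonoidHom.comp_apply, inj, FreeGroup.map.of]; exact (PresentedGroup.toGroup.of hψ0).symm) (v A)
  have hθψ : ∀ A, θ (ψ A) = emb (M + 1) A := fun A => by rw [← hψw]; exact hgw A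
  obtain ⟨t, ht⟩ : ∃ t, t = mk τ := ⟨_, rfl⟩
  have hθt : θ t = T := by rw [ht]; exact hgτ
  have r1 : ∀ i, t⁻¹ * ψ (emb M (h i)) * t = ψ (Ai i) := fun i => by
    have := hone _ (Finset.mem_union_left _ (Finset.mem_union_right _ (Finset.mem_image_of_mem
      (fun i => τ⁻¹ * w (emb M (h i)) * τ * (w (Ai i))⁻¹) (Finset.mem_univ i))))
    rwa [map_mul, map_mul, map_mul, map_inv, map_inv, hψw, hψw, ← ht, mul_inv_eq_one] at this
  have r2 : t * t = ψ A₂ := by
    have := hone (τ * τ * (w A₂)⁻¹) (Finset.mem_union_right _ (by simp))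
    rwa [map_mul, map_mul, map_inv, hψw, ← ht, mul_inv_eq_one] at this
  have r3 : t⁻¹ * ψ AS * t = ψ AB * t * ψ AC := by
    have := hone (τ⁻¹ * w AS * τ * (w AB * τ * w AC)⁻¹) (Finset.mem_union_right _ (by simp))
    rwa [map_mul, map_mul, map_mul, map_inv, map_inv, map_mul, map_mul, hψw, hψw, hψw, ← ht, mul_inv_eq_one] at this
  have hstab : ∀ A' : Cfsg.SU M F q, t⁻¹ * ψ (emb M A') * t ∈ ψ.range := by
    intro A'
    let K : Subgroup (Cfsg.SU M F q) := ψ.range.comap ((MulAut.conj t⁻¹).toMonoidHom.comp (ψ.comp (emb M)))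
    have hK : K = ⊤ := eq_top_iff.2 (hh.ge.trans ((Subgroup.closure_le _).2 (by
      rintro _ ⟨i, rfl⟩
      refine ⟨Ai i, ?_⟩
      show _ = t⁻¹ * ψ (emb M (h i)) * t⁻¹⁻¹
      rw [inv_inv, r1])))
    have := hK.ge (Subgroup.mem_top A')
    change t⁻¹ * ψ (emb M A') * t⁻¹⁻¹ ∈ ψ.range at this
    rwa [inv_inv] at this
  let _act : MulAction (PresentedGroup (↑R' : Set (FreeGroup (Option α)))) (Sphere (hermStd (M + 2) hF)) :=
    MulAction.compHom _ θ
  have hsm : ∀ (x : PresentedGroup (↑R' : Set (FreeGroup (Option α)))) (p : Sphere (hermStd (M + 2) hF)),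
      (x • p).1 = act (θ x) p.1 := fun x p => rfl
  have e1emb : ∀ A : Cfsg.SU (M + 1) F q, act (emb (M + 1) A) (std 1) = std 1 → ∃ A', emb M A' = A := fun A hA => by
    rw [e10, act_emb_succ] at hA
    exact exists_emb hF (Fin.cons_right_injective (α := fun _ => F) (0 : F) hA)
  have C : Cover (PresentedGroup (↑R' : Set (FreeGroup (Option α)))) (Sphere (hermStd (M + 2) hF))
      (Orth (hermStd (M + 2) hF)) (ept hF 0) (ept hF 1) ψ.range t :=
    { tight := (tight hB (by rw [finrank_std]; exact (show M + 2 = 5 ∨ 7 ≤ M + 2 by omega).imp_right Or.inl) _).toLocal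
      equiv := fun x p p' hp => by
        show hermStd _ hF (x • p).1 (x • p').1 = 0
        rw [hsm, hsm, act_form]; exact hp
      fix := by
        rintro _ ⟨A, rfl⟩
        refine Subtype.ext ?_
        rw [hsm, hθψ]; exact act_emb_zero A
      gen := by
        rw [eq_top_iff, ← PresentedGroup.closure_range_of (↑R' : Set (FreeGroup (Option α))), Subgroup.closure_le]
        rintro _ ⟨o, rfl⟩
        cases o with
        | none => exact Subgroup.mem_sup_right (ht ▸ Subgroup.mem_zpowers t : mk τ ∈ Subgroup.zpowers t)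
        | some i =>
          refine Subgroup.mem_sup_left ⟨e (PresentedGroup.of i), ?_⟩
          show PresentedGroup.toGroup hψ0 (e.symm (e _)) = _
          rw [e.symm_apply_apply, PresentedGroup.toGroup.of]
          rfl
      sq := ⟨A₂, r2.symm⟩
      edge := by show hermStd _ hF (std 0) (std 1) = 0; rw [std_orth, if_neg o01]
      move := Subtype.ext (by rw [hsm, hθt]; exact hT0)
      trans := fun c hc => by
        obtain ⟨g', hg'⟩ := exists_act_eq hF (n := M + 2) (k := 2) (by omega) ![std 0, std 1] ![std 0, c.1]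
          (fun i j => by fin_cases i <;> fin_cases j <;> simp [std_orth, o01, Ne.symm o01]) (orth2 c.1 c.2 hc)
        obtain ⟨A, rfl⟩ := exists_emb hF (hg' 0)
        exact ⟨ψ A, ⟨A, rfl⟩, Subtype.ext (by rw [hsm, hθψ]; exact hg' 1)⟩
      stab := by
        rintro _ ⟨A, rfl⟩ hA
        obtain ⟨A', rfl⟩ := e1emb A (by
          have := congrArg Subtype.val hA
          rwa [hsm, hθψ] at this)
        exact hstab A'
      tri := fun c hc hc1 => by
        obtain ⟨g', hg'⟩ := exists_act_eq hF (n := M + 2) (k := 3) (by omega) ![std 0, std 1, std i2]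
          ![std 0, std 1, c.1] (orth3 (std i2) (by rw [std_orth, if_pos rfl]) (by rw [std_orth, if_neg o02])
            (by rw [std_orth, if_neg o12])) (orth3 c.1 c.2 hc hc1)
        obtain ⟨A, rfl⟩ := exists_emb hF (hg' 0)
        obtain ⟨A', rfl⟩ := e1emb A (hg' 1)
        refine ⟨ψ (emb M A' * AS), ⟨_, rfl⟩, Subtype.ext ?_,
          t⁻¹ * ψ (emb M A') * t * ψ AB, mul_mem (hstab A') ⟨_, rfl⟩, ψ AC, ⟨_, rfl⟩, ?_⟩
        · rw [hsm, hθψ, map_mul, act_mul]
          exact (congrArg _ hS1).trans (hg' 2)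
        · rw [map_mul]
          calc t⁻¹ * (ψ (emb M A') * ψ AS) * t = t⁻¹ * ψ (emb M A') * t * (t⁻¹ * ψ AS * t) := by group
            _ = _ := by rw [r3]; group }
  have hinj : Function.Injective θ := C.injective (C.closes_of_tight
      (tight hB (by rw [finrank_std]; exact (show M + 2 = 5 ∨ 7 ≤ M + 2 by omega).imp_right Or.inl) _)) θ
    (fun x hx => Subtype.ext (by rw [hsm, hx, act_one]))
    (by
      rintro _ ⟨A, rfl⟩ hA
      rw [hθψ] at hA
      rw [emb_injective (M + 1) (hA.trans (map_one _).symm), map_one])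
  have hsurj : θ.range = ⊤ := gen_succ hF (by omega) (t := T) hT0 _
    (by rintro _ ⟨A, rfl⟩; exact ⟨ψ A, hθψ A⟩) ⟨t, hθt⟩
  refine ⟨R', ?_, MulEquiv.ofBijective θ ⟨hinj, MonoidHom.range_eq_top.1 hsurj⟩, fun a => ?_, ?_⟩
  swap; · exact (PresentedGroup.toGroup.of hR').trans rfl
  swap; · show act (θ (PresentedGroup.of none)) (std 0) = std 1
          rw [show θ (PresentedGroup.of none) = T from (PresentedGroup.toGroup.of hR').trans rfl]; exact hT0
  refine (Finset.card_union_le _ _).trans (add_le_add ((Finset.card_union_le _ _).trans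
    (add_le_add Finset.card_image_le (Finset.card_image_le.trans le_rfl))) ?_)
  exact (Finset.card_insert_le _ _).trans (by simp)

include hF in
/-- a presentation one dimension up -/
theorem step_pres {M : ℕ} (hM : M = 3 ∨ 5 ≤ M) {α : Type} (R : Finset (FreeGroup α))
    (e : PresentedGroup (↑R : Set (FreeGroup α)) ≃* Cfsg.SU (M + 1) F q) {ι : Type*} [Fintype ι]
    (h : ι → Cfsg.SU M F q) (hh : Subgroup.closure (Set.range h) = ⊤) :
    ∃ R' : Finset (FreeGroup (Option α)), R'.card ≤ R.card + Fintype.card ι + 2 ∧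
      Nonempty (PresentedGroup (↑R' : Set (FreeGroup (Option α))) ≃* Cfsg.SU (M + 2) F q) := by
  obtain ⟨R', h', e', -⟩ := step_pres_gens hF hM R e h hh
  exact ⟨R', h', ⟨e'⟩⟩

/-- every finite group has few generators -/
theorem exists_gens_log {G : Type*} [Group G] [Finite G] {b : ℕ} (hb : Nat.card G < 2 ^ (b + 1)) :
    ∃ h : Fin b → G, Subgroup.closure (Set.range h) = ⊤ := by
  classical
  have _fg : Fintype G := Fintype.ofFinite G
  obtain ⟨S, hS, hmax⟩ := Finset.exists_max_image
    (Finset.univ.filter fun S : Finset G => 2 ^ S.card ≤ Nat.card (Subgroup.closure (↑S : Set G)))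
    (fun S => Nat.card (Subgroup.closure (↑S : Set G))) ⟨∅, by simp⟩
  simp only [Finset.mem_filter, Finset.mem_univ, true_and] at hS hmax
  have htop : Subgroup.closure (↑S : Set G) = ⊤ := by
    by_contra hne
    obtain ⟨x, hx⟩ : ∃ x, x ∉ Subgroup.closure (↑S : Set G) := by
      by_contra hc
      push Not at hc
      exact hne (eq_top_iff.2 fun x _ => hc x)
    have hle : Subgroup.closure (↑S : Set G) ≤ Subgroup.closure (↑(insert x S) : Set G) :=
      Subgroup.closure_mono (by simp)
    have hdvd := Subgroup.card_dvd_of_le hle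
    have hne' : Nat.card (Subgroup.closure (↑S : Set G)) ≠ Nat.card (Subgroup.closure (↑(insert x S) : Set G)) :=
      fun e => hx (by
        rw [Subgroup.eq_of_le_of_card_ge hle e.ge]
        exact Subgroup.subset_closure (by simp))
    have hpos : 0 < Nat.card (Subgroup.closure (↑(insert x S) : Set G)) := Nat.card_pos
    obtain ⟨c, hc⟩ := hdvd
    have hc2 : 2 ≤ c := by
      rcases c with _ | _ | c
      · omega
      · exact absurd (by rw [hc]; ring) hne'
      · omega
    have hmul : Nat.card (Subgroup.closure (↑S : Set G)) * 2 ≤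
        Nat.card (Subgroup.closure (↑(insert x S) : Set G)) := hc ▸ Nat.mul_le_mul_left _ hc2
    have := hmax (insert x S) (le_trans (Nat.pow_le_pow_right (by norm_num) (Finset.card_insert_le x S)) (by
      rw [pow_succ]; omega))
    have hp : 0 < Nat.card (Subgroup.closure (↑S : Set G)) := Nat.card_pos
    omega
  have hSb : S.card ≤ b := by
    rw [htop, Subgroup.card_top] at hS
    have := (Nat.pow_lt_pow_iff_right (by norm_num : 1 < 2)).1 (lt_of_le_of_lt hS hb)
    omega
  refine ⟨fun i => if hi : i.val < S.card then (S.equivFin.symm ⟨i, hi⟩ : S) else 1, ?_⟩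
  rw [eq_top_iff, ← htop, Subgroup.closure_le]
  intro x hx
  exact Subgroup.subset_closure ⟨⟨S.equivFin ⟨x, hx⟩, lt_of_lt_of_le (S.equivFin ⟨x, hx⟩).2 hSb⟩, by simp⟩

end CfsgLib.Known.SUBounded
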